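import Cfsg.Agent.H38.U6C.Basic

/-!
The hermitian space of dimension four over the field with four elements on `Fin 256`: linear
algebra of the model, the group of its isometries, and the bound on its order.
-/

set_option autoImplicit false
set_option maxRecDepth 100000

namespace H50.U6C

open H38.U6C

theorem fmul_lt (x y : ℕ) : fmul x y < 4 := by
  have h : ∀ a b : Fin 4,
      (![![0, 0, 0, 0], ![0, 1, 2, 3], ![0, 2, 3, 1], ![0, 3, 1, 2]] a : Fin 4 → ℕ) b < 4 := by
    decide
  exact h _ _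

theorem fconj_lt (x : ℕ) : fconj x < 4 := by
  have h : ∀ a : Fin 4, (![0, 1, 3, 2] : Fin 4 → ℕ) a < 4 := by decide
  exact h _

theorem xor_lt_four {x y : ℕ} (hx : x < 4) (hy : y < 4) : x ^^^ y < 4 :=
  Nat.xor_lt_two_pow (n := 2) hx hy

theorem fmul_xor_aux : ∀ x < 4, ∀ y < 4, ∀ z < 4,
    fmul x (y ^^^ z) = fmul x y ^^^ fmul x z ∧ fmul (y ^^^ z) x = fmul y x ^^^ fmul z x ∧
      fmul x (fmul y z) = fmul (fmul x y) z ∧ fmul y (fmul x z) = fmul x (fmul y z) := by decide

theorem fconj_aux : ∀ x < 4, ∀ y < 4, fconj (x ^^^ y) = fconj x ^^^ fconj y ∧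
    fconj (fmul x y) = fmul (fconj x) (fconj y) ∧ fmul x y = fmul y x ∧
      fconj (fconj x) = x := by decide

theorem fmul_xor {x y z : ℕ} (hx : x < 4) (hy : y < 4) (hz : z < 4) :
    fmul x (y ^^^ z) = fmul x y ^^^ fmul x z := (fmul_xor_aux x hx y hy z hz).1

theorem coord_lt (a : V) (i : ℕ) : coord a i < 4 := Nat.mod_lt _ (by norm_num)

theorem coord_ext {a b : V} (h : ∀ i < 4, coord a i = coord b i) : a = b := by
  have h0 := h 0 (by norm_num)
  have h1 := h 1 (by norm_num)
  have h2 := h 2 (by norm_num)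
  have h3 := h 3 (by norm_num)
  simp only [coord] at h0 h1 h2 h3
  norm_num at h0 h1 h2 h3
  have ha := a.isLt
  have hb := b.isLt
  exact Fin.ext (by omega)

theorem vadd_val (a b : V) : (vadd a b).val = a.val ^^^ b.val :=
  Nat.mod_eq_of_lt (Nat.xor_lt_two_pow (n := 8) a.isLt b.isLt)

theorem coord_vadd (a b : V) (i : ℕ) : coord (vadd a b) i = coord a i ^^^ coord b i := by
  simp only [coord, vadd_val]
  rw [show (4 : ℕ) ^ i = 2 ^ (2 * i) by rw [pow_mul]; norm_num,
    ← Nat.shiftRight_eq_div_pow, ← Nat.shiftRight_eq_div_pow, ← Nat.shiftRight_eq_div_pow,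
    Nat.shiftRight_xor_distrib]
  exact Nat.xor_mod_two_pow (n := 2)

theorem vadd_comm (a b : V) : vadd a b = vadd b a :=
  Fin.ext (by rw [vadd_val, vadd_val, Nat.xor_comm])

theorem vadd_assoc (a b c : V) : vadd (vadd a b) c = vadd a (vadd b c) :=
  Fin.ext (by rw [vadd_val, vadd_val, vadd_val, vadd_val, Nat.xor_assoc])

theorem vadd_self (a : V) : vadd a a = 0 := Fin.ext (by rw [vadd_val, Nat.xor_self]; rfl)

theorem vadd_zero' (a : V) : vadd a 0 = a :=
  Fin.ext (by rw [vadd_val]; exact Nat.xor_zero _)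

theorem vadd_vadd_vadd (a b c d : V) : vadd (vadd a b) (vadd c d) = vadd (vadd a c) (vadd b d) := by
  rw [vadd_assoc, ← vadd_assoc b c d, vadd_comm b c, vadd_assoc c b d, ← vadd_assoc]

theorem coord_smul4 (c : ℕ) (a : V) {i : ℕ} (hi : i < 4) :
    coord (smul4 c a) i = fmul c (coord a i) := by
  have h0 := fmul_lt c (coord a 0)
  have h1 := fmul_lt c (coord a 1)
  have h2 := fmul_lt c (coord a 2)
  have h3 := fmul_lt c (coord a 3)
  interval_cases i <;> simp only [coord, smul4] at * <;> norm_num at * <;> omega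

theorem smul4_vadd {c : ℕ} (hc : c < 4) (a b : V) :
    smul4 c (vadd a b) = vadd (smul4 c a) (smul4 c b) := coord_ext fun i hi => by
  rw [coord_vadd, coord_smul4 c _ hi, coord_smul4 c _ hi, coord_smul4 c _ hi, coord_vadd,
    fmul_xor hc (coord_lt a i) (coord_lt b i)]

theorem smul4_xor {c d : ℕ} (hc : c < 4) (hd : d < 4) (a : V) :
    smul4 (c ^^^ d) a = vadd (smul4 c a) (smul4 d a) := coord_ext fun i hi => by
  rw [coord_vadd, coord_smul4 _ _ hi, coord_smul4 _ _ hi, coord_smul4 _ _ hi,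
    (fmul_xor_aux _ (coord_lt a i) c hc d hd).2.1]

theorem smul4_smul4 {c d : ℕ} (hc : c < 4) (hd : d < 4) (a : V) :
    smul4 c (smul4 d a) = smul4 (fmul c d) a := coord_ext fun i hi => by
  rw [coord_smul4 _ _ hi, coord_smul4 _ _ hi, coord_smul4 _ _ hi,
    (fmul_xor_aux c hc d hd _ (coord_lt a i)).2.2.1]

theorem smul4_one (a : V) : smul4 1 a = a := coord_ext fun i hi => by
  rw [coord_smul4 _ _ hi]
  exact (show ∀ x < 4, fmul 1 x = x by decide) _ (coord_lt a i)

theorem smul4_zero_left (a : V) : smul4 0 a = 0 := coord_ext fun i hi => by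
  rw [coord_smul4 _ _ hi, (show ∀ x < 4, fmul 0 x = 0 by decide) _ (coord_lt a i)]
  simp [coord]

/-- A term of the form. -/
def hterm (a b : V) (i : ℕ) : ℕ := fmul (fconj (coord a i)) (coord b i)

theorem herm_eq (a b : V) :
    herm a b = (hterm a b 0 ^^^ hterm a b 1) ^^^ (hterm a b 2 ^^^ hterm a b 3) := rfl

theorem hterm_lt (a b : V) (i : ℕ) : hterm a b i < 4 := fmul_lt _ _

theorem herm_lt (a b : V) : herm a b < 4 :=
  xor_lt_four (xor_lt_four (hterm_lt a b 0) (hterm_lt a b 1))
    (xor_lt_four (hterm_lt a b 2) (hterm_lt a b 3))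

theorem xor_four (a b c d a' b' c' d' : ℕ) :
    ((a ^^^ a') ^^^ (b ^^^ b')) ^^^ ((c ^^^ c') ^^^ (d ^^^ d')) =
      ((a ^^^ b) ^^^ (c ^^^ d)) ^^^ ((a' ^^^ b') ^^^ (c' ^^^ d')) := by
  ac_rfl

theorem herm_vadd_right (v a b : V) : herm v (vadd a b) = herm v a ^^^ herm v b := by
  simp only [herm_eq, hterm, coord_vadd,
    fmul_xor (fconj_lt _) (coord_lt a _) (coord_lt b _)]
  exact xor_four ..

theorem herm_smul_right {c : ℕ} (hc : c < 4) (v a : V) :
    herm v (smul4 c a) = fmul c (herm v a) := by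
  have ht : ∀ i < 4, hterm v (smul4 c a) i = fmul c (hterm v a i) := fun i hi => by
    rw [hterm, hterm, coord_smul4 c a hi,
      (fmul_xor_aux c hc _ (fconj_lt (coord v i)) _ (coord_lt a i)).2.2.2]
  rw [herm_eq, herm_eq, fmul_xor hc (xor_lt_four (hterm_lt v a 0) (hterm_lt v a 1))
    (xor_lt_four (hterm_lt v a 2) (hterm_lt v a 3)), fmul_xor hc (hterm_lt v a 0) (hterm_lt v a 1),
    fmul_xor hc (hterm_lt v a 2) (hterm_lt v a 3), ht 0 (by norm_num), ht 1 (by norm_num),
    ht 2 (by norm_num), ht 3 (by norm_num)]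

theorem herm_conj (a b : V) : herm b a = fconj (herm a b) := by
  have ht : ∀ i, hterm b a i = fconj (hterm a b i) := fun i => by
    have ha := coord_lt a i
    have hb := coord_lt b i
    rw [hterm, hterm, (fconj_aux _ (fconj_lt (coord a i)) _ hb).2.1,
      (fconj_aux _ ha _ ha).2.2.2, (fconj_aux _ ha _ (fconj_lt (coord b i))).2.2.1]
  rw [herm_eq, herm_eq, (fconj_aux _ (xor_lt_four (hterm_lt a b 0) (hterm_lt a b 1)) _
      (xor_lt_four (hterm_lt a b 2) (hterm_lt a b 3))).1,
    (fconj_aux _ (hterm_lt a b 0) _ (hterm_lt a b 1)).1,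
    (fconj_aux _ (hterm_lt a b 2) _ (hterm_lt a b 3)).1, ht, ht, ht, ht]

theorem herm_vadd_left (v a b : V) : herm (vadd a b) v = herm a v ^^^ herm b v := by
  rw [herm_conj v, herm_vadd_right, (fconj_aux _ (herm_lt v a) _ (herm_lt v b)).1, ← herm_conj,
    ← herm_conj]

theorem herm_smul_left {c : ℕ} (hc : c < 4) (v a : V) :
    herm (smul4 c a) v = fmul (fconj c) (herm a v) := by
  rw [herm_conj v, herm_smul_right hc, (fconj_aux c hc _ (herm_lt v a)).2.1, ← herm_conj]

theorem herm_self_lt (a : V) : herm a a < 2 :=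
  (show ∀ h < 4, fconj h = h → h < 2 by decide) _ (herm_lt a a) (herm_conj a a).symm

theorem qv_vadd (a b : V) : qv (vadd a b) = xor (xor (qv a) (qv b)) (pol a b) := by
  simp only [qv, pol, herm_vadd_left, herm_vadd_right, herm_conj a b]
  exact (show ∀ x < 2, ∀ y < 2, ∀ h < 4, (((x ^^^ fconj h) ^^^ (h ^^^ y)) == 1) =
    xor (xor (x == 1) (y == 1)) (decide (2 ≤ h)) by decide) _ (herm_self_lt a) _ (herm_self_lt b) _
      (herm_lt a b)

theorem herm_of_pol {a b a' b' : V} (h₁ : pol a b = pol a' b')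
    (h₂ : pol a (smul4 2 b) = pol a' (smul4 2 b')) : herm a b = herm a' b' := by
  simp only [pol, herm_smul_right (show 2 < 4 by norm_num)] at h₁ h₂
  exact (show ∀ x < 4, ∀ y < 4, decide (2 ≤ x) = decide (2 ≤ y) →
    decide (2 ≤ fmul 2 x) = decide (2 ≤ fmul 2 y) → x = y by decide) _ (herm_lt a b) _
      (herm_lt a' b') h₁ h₂

theorem eq_basis (v : V) : v = vadd (vadd (smul4 (coord v 0) 1) (smul4 (coord v 1) 4))
    (vadd (smul4 (coord v 2) 16) (smul4 (coord v 3) 64)) := coord_ext fun i hi => by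
  have h0 : ∀ x < 4, fmul x 0 = 0 ∧ fmul x 1 = x := by decide
  simp only [coord_vadd, coord_smul4 _ _ hi]
  have e0 := h0 _ (coord_lt v 0)
  have e1 := h0 _ (coord_lt v 1)
  have e2 := h0 _ (coord_lt v 2)
  have e3 := h0 _ (coord_lt v 3)
  interval_cases i <;>
    simp [show coord (1 : V) 0 = 1 by decide, show coord (1 : V) 1 = 0 by decide,
      show coord (1 : V) 2 = 0 by decide, show coord (1 : V) 3 = 0 by decide,
      show coord (4 : V) 0 = 0 by decide, show coord (4 : V) 1 = 1 by decide,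
      show coord (4 : V) 2 = 0 by decide, show coord (4 : V) 3 = 0 by decide,
      show coord (16 : V) 0 = 0 by decide, show coord (16 : V) 1 = 0 by decide,
      show coord (16 : V) 2 = 1 by decide, show coord (16 : V) 3 = 0 by decide,
      show coord (64 : V) 0 = 0 by decide, show coord (64 : V) 1 = 0 by decide,
      show coord (64 : V) 2 = 0 by decide, show coord (64 : V) 3 = 1 by decide, e0, e1, e2, e3]

/-- The isometries of the hermitian space. -/
def isom : Subgroup (Equiv.Perm V) where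
  carrier := {g | (∀ a b, g (vadd a b) = vadd (g a) (g b)) ∧
    (∀ a, g (smul4 2 a) = smul4 2 (g a)) ∧ ∀ a, qv (g a) = qv a}
  one_mem' := ⟨fun _ _ => rfl, fun _ => rfl, fun _ => rfl⟩
  mul_mem' := fun {g h} hg hh => ⟨fun a b => by
      simp only [Equiv.Perm.mul_apply, hh.1, hg.1], fun a => by
      simp only [Equiv.Perm.mul_apply, hh.2.1, hg.2.1], fun a => by
      simp only [Equiv.Perm.mul_apply, hg.2.2, hh.2.2]⟩
  inv_mem' := fun {g} hg => ⟨fun a b => g.injective (by simp [hg.1]),
    fun a => g.injective (by simp [hg.2.1]), fun a => by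
      rw [← hg.2.2 (g⁻¹ a)]; simp⟩

theorem mem_isom {g : Equiv.Perm V} : g ∈ isom ↔ (∀ a b, g (vadd a b) = vadd (g a) (g b)) ∧
    (∀ a, g (smul4 2 a) = smul4 2 (g a)) ∧ ∀ a, qv (g a) = qv a := Iff.rfl

theorem isom_pol {g : Equiv.Perm V} (hg : g ∈ isom) (a b : V) : pol (g a) (g b) = pol a b := by
  have h := hg.2.2 (vadd a b)
  rw [hg.1, qv_vadd, qv_vadd, hg.2.2, hg.2.2] at h
  revert h
  cases xor (qv a) (qv b) <;> cases pol (g a) (g b) <;> cases pol a b <;> simp

theorem isom_herm {g : Equiv.Perm V} (hg : g ∈ isom) (a b : V) : herm (g a) (g b) = herm a b :=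
  herm_of_pol (isom_pol hg a b) (by rw [← hg.2.1, isom_pol hg])

theorem isom_smul {g : Equiv.Perm V} (hg : g ∈ isom) {c : ℕ} (hc : c < 4) (a : V) :
    g (smul4 c a) = smul4 c (g a) := by
  interval_cases c
  · rw [smul4_zero_left, smul4_zero_left]
    have h := hg.1 0 0
    rwa [vadd_self, vadd_self] at h
  · rw [smul4_one, smul4_one]
  · exact hg.2.1 a
  · rw [show (3 : ℕ) = fmul 2 2 by decide, ← smul4_smul4 (by norm_num) (by norm_num),
      ← smul4_smul4 (by norm_num) (by norm_num), hg.2.1, hg.2.1]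

theorem pnt_spec : ∀ i, qv (pnt i) = false := by decide +kernel

theorem herm_pnt (i : Fin 45) : herm (pnt i) (pnt i) = 0 :=
  (show ∀ h < 2, (h == 1) = false → h = 0 by decide) _ (herm_self_lt _) (pnt_spec i)

theorem tv_apply (i : Fin 45) (a : V) : tv i a = vadd a (smul4 (herm (pnt i) a) (pnt i)) := rfl

theorem tv_mem_isom (i : Fin 45) : tv i ∈ isom := by
  refine ⟨fun a b => ?_, fun a => ?_, fun a => ?_⟩
  · rw [tv_apply, tv_apply, tv_apply, herm_vadd_right, smul4_xor (herm_lt _ _) (herm_lt _ _),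
      vadd_vadd_vadd]
  · rw [tv_apply, tv_apply, smul4_vadd (by norm_num), smul4_smul4 (by norm_num) (herm_lt _ _),
      herm_smul_right (by norm_num)]
  · have h := herm_lt (pnt i) a
    rw [tv_apply, qv_vadd]
    simp only [qv, pol, herm_smul_right h, herm_smul_left h, herm_pnt, herm_conj (pnt i) a]
    exact (show ∀ x < 2, ∀ h < 4, xor (xor (x == 1) (fmul h (fmul (fconj h) 0) == 1))
      (decide (2 ≤ fmul h (fconj h))) = (x == 1) by decide) _ (herm_self_lt a) _ h

theorem uGroup_le_isom : uGroup ≤ isom :=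
  (Subgroup.closure_le _).2 fun _ ⟨i, hi⟩ => hi ▸ tv_mem_isom i

theorem pnt_complete : ∀ v : V, qv v = false → v ≠ 0 →
    ∃ j : Fin 45, ∃ c < 4, c ≠ 0 ∧ v = smul4 c (pnt j) := by decide +kernel

theorem isom_conj_tv {g : Equiv.Perm V} (hg : g ∈ isom) (i : Fin 45) :
    ∃ j, g * tv i * g⁻¹ = tv j := by
  have hne : g (pnt i) ≠ 0 := fun h => by
    have h0 : g 0 = 0 := by
      have := isom_smul hg (c := 0) (by norm_num) 0
      rwa [smul4_zero_left, smul4_zero_left] at this
    exact (show ∀ i, pnt i ≠ 0 by decide +kernel) i (g.injective (h.trans h0.symm))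
  obtain ⟨j, c, hc, hc0, hj⟩ := pnt_complete _ (by rw [hg.2.2, pnt_spec]) hne
  refine ⟨j, Equiv.ext fun a => ?_⟩
  have hh : herm (g (pnt i)) a = herm (pnt i) (g⁻¹ a) := by
    conv_lhs => rw [show a = g (g⁻¹ a) by simp]
    rw [isom_herm hg]
  rw [Equiv.Perm.mul_apply, Equiv.Perm.mul_apply, tv_apply, hg.1,
    isom_smul hg (herm_lt _ _), ← hh, hj, herm_smul_left hc,
    smul4_smul4 (fmul_lt _ _) hc,
    (show ∀ c < 4, c ≠ 0 → ∀ h < 4, fmul (fmul (fconj c) h) c = h by decide) c hc hc0 _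
      (herm_lt (pnt j) a)]
  simp [tv_apply]

/-- Multiplication by `ω`. -/
def omegaPerm : Equiv.Perm V where
  toFun := smul4 2
  invFun := smul4 3
  left_inv a := by
    rw [smul4_smul4 (by norm_num) (by norm_num), show fmul 3 2 = 1 by decide, smul4_one]
  right_inv a := by
    rw [smul4_smul4 (by norm_num) (by norm_num), show fmul 2 3 = 1 by decide, smul4_one]

theorem omegaPerm_apply (a : V) : omegaPerm a = smul4 2 a := rfl

theorem omegaPerm_mem : omegaPerm ∈ isom := by
  refine ⟨fun a b => smul4_vadd (by norm_num) a b, fun a => rfl, fun a => ?_⟩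
  rw [omegaPerm_apply]
  simp only [qv, herm_smul_right (show 2 < 4 by norm_num), herm_smul_left (show 2 < 4 by norm_num)]
  exact (show ∀ x < 2, (fmul 2 (fmul (fconj 2) x) == 1) = (x == 1) by decide) _ (herm_self_lt a)

theorem omegaPerm_comm {g : Equiv.Perm V} (hg : g ∈ isom) : g * omegaPerm = omegaPerm * g :=
  Equiv.ext fun a => by
    simp only [Equiv.Perm.mul_apply, omegaPerm_apply, hg.2.1]

theorem omegaPerm_cube : omegaPerm ^ 3 = 1 := Equiv.ext fun a => by
  simp only [pow_succ, pow_zero, one_mul, Equiv.Perm.mul_apply, omegaPerm_apply,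
    Equiv.Perm.one_apply]
  rw [smul4_smul4 (by norm_num) (by norm_num), show fmul 2 2 = 3 by decide,
    smul4_smul4 (by norm_num) (by norm_num), show fmul 3 2 = 1 by decide, smul4_one]

theorem omegaPerm_ne_one : omegaPerm ≠ 1 := fun h =>
  absurd (DFunLike.congr_fun h (1 : V)) (by decide)

theorem tv_sq (i : Fin 45) : tv i * tv i = 1 := Equiv.ext fun a => tvFun_invol i a

theorem tv_zero_ne_one : tv 0 ≠ 1 := fun h => absurd (DFunLike.congr_fun h (16 : V)) (by decide)

/-- The unit vectors orthogonal to the first basis vector. -/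
def cand : List V := (List.finRange 256).filter fun x => coord x 0 == 0 && qv x

/-- The orthonormal triples completing the first basis vector. -/
def trip : List (V × V × V) :=
  cand.flatMap fun b => (cand.filter fun c => herm b c == 0).flatMap fun c =>
    (cand.filter fun d => herm b d == 0 && herm c d == 0).map fun d => (b, c, d)

theorem trip_length : trip.length = 648 := by decide +kernel

theorem units_card : (Finset.univ.filter fun v : V => qv v = true).card = 120 := by decide +kernel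

theorem mem_cand {x : V} (h0 : herm 1 x = 0) (h1 : qv x = true) : x ∈ cand := by
  refine List.mem_filter.2 ⟨List.mem_finRange _, ?_⟩
  have h := h0
  simp only [herm_eq, hterm, show coord (1 : V) 0 = 1 by decide,
    show coord (1 : V) 1 = 0 by decide, show coord (1 : V) 2 = 0 by decide,
    show coord (1 : V) 3 = 0 by decide] at h
  rw [(show ∀ a < 4, ∀ b < 4, ∀ c < 4, ∀ d < 4, (fmul (fconj 1) a ^^^ fmul (fconj 0) b) ^^^
    (fmul (fconj 0) c ^^^ fmul (fconj 0) d) = a by decide) _ (coord_lt x 0) _ (coord_lt x 1) _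
      (coord_lt x 2) _ (coord_lt x 3)] at h
  simp [h, h1]

theorem card_stab : Nat.card {g : isom // (g : Equiv.Perm V) 1 = 1} ≤ 648 := by
  have hm : ∀ g : {g : isom // (g : Equiv.Perm V) 1 = 1},
      ((g.1 : Equiv.Perm V) 4, (g.1 : Equiv.Perm V) 16, (g.1 : Equiv.Perm V) 64) ∈ trip.toFinset := by
    rintro ⟨⟨g, hg⟩, h1⟩
    have ho : ∀ a : V, herm 1 a = 0 → qv a = true → g a ∈ cand := fun a ha hq => by
      refine mem_cand ?_ (by rw [hg.2.2, hq])
      have := isom_herm hg 1 a
      rw [show g 1 = 1 from h1] at this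
      rw [this, ha]
    simp only [List.mem_toFinset, trip, List.mem_flatMap, List.mem_map, List.mem_filter]
    refine ⟨g 4, ho _ (by decide) (by decide), g 16, ⟨ho _ (by decide) (by decide), ?_⟩,
      g 64, ⟨ho _ (by decide) (by decide), ?_⟩, rfl⟩
    · simp [isom_herm hg, show herm (4 : V) 16 = 0 by decide]
    · simp [isom_herm hg, show herm (4 : V) 64 = 0 by decide, show herm (16 : V) 64 = 0 by decide]
  have hinj : Function.Injective
      (fun g => (⟨_, hm g⟩ : {t // t ∈ trip.toFinset})) := by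
    rintro ⟨⟨g, hg⟩, hg1⟩ ⟨⟨h, hh⟩, hh1⟩ he
    simp only [Subtype.mk.injEq, Prod.mk.injEq] at he
    refine Subtype.ext (Subtype.ext (Equiv.ext fun v => ?_))
    show g v = h v
    rw [eq_basis v, hg.1, hg.1, hg.1, hh.1, hh.1, hh.1, isom_smul hg (coord_lt _ _),
      isom_smul hg (coord_lt _ _), isom_smul hg (coord_lt _ _), isom_smul hg (coord_lt _ _),
      isom_smul hh (coord_lt _ _), isom_smul hh (coord_lt _ _), isom_smul hh (coord_lt _ _),
      isom_smul hh (coord_lt _ _), show g 1 = 1 from hg1, show h 1 = 1 from hh1, he.1, he.2.1,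
      he.2.2]
  refine (Nat.card_le_card_of_injective _ hinj).trans ?_
  rw [Nat.card_eq_fintype_card, Fintype.card_coe, ← trip_length]
  exact trip.toFinset_card_le

theorem card_isom_le : Nat.card isom ≤ 77760 := by
  have hst : Nat.card (MulAction.stabilizer isom (1 : V)) ≤ 648 := card_stab
  have ho : (MulAction.orbit isom (1 : V)).ncard ≤ 120 := by
    rw [← units_card, ← Set.ncard_coe_finset]
    refine Set.ncard_le_ncard ?_ (Finset.finite_toSet _)
    rintro _ ⟨g, rfl⟩
    simp only [Finset.coe_filter, Finset.mem_univ, true_and, Set.mem_ofPred_eq]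
    exact (g.2.2.2 1).trans (by decide)
  calc Nat.card isom = Nat.card (MulAction.stabilizer isom (1 : V)) *
        (MulAction.stabilizer isom (1 : V)).index :=
      (Subgroup.card_mul_index (MulAction.stabilizer isom (1 : V))).symm
    _ ≤ 648 * 120 := Nat.mul_le_mul hst (by rwa [MulAction.index_stabilizer])

end H50.U6C
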