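import Cfsg.Agent.H50.U6C.Core

/-!
The quadratic form of squares and the alternating form of commutators on the core modulo its
centre, and its behaviour along a splitting by fixed spaces.
-/

set_option autoImplicit false
set_option linter.unusedSectionVars false

namespace H50.U6C

open H38.U6C

universe u v

variable {G : Type u} [Group G] {z : G} {J : Subgroup G}
variable {F : Type v} [Field F] [Fintype F]
variable {π : ↥(Subgroup.centralizer ({z} : Set G)) →* Cfsg.PSp 2 F}
variable (h : Base z J π) (D : Data z J π)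

/-- A representative. -/
noncomputable def Data.rep (m : D.M) : G := (D.cl_surj m).choose

theorem Data.rep_mem (m : D.M) : D.rep m ∈ J := (D.cl_surj m).choose_spec.1

theorem Data.cl_rep (m : D.M) : D.cl (D.rep m) = m := (D.cl_surj m).choose_spec.2

open Classical in
/-- The quadratic form. -/
noncomputable def Data.q (m : D.M) : Bool := decide (D.rep m * D.rep m = z)

/-- The alternating form. -/
noncomputable def Data.bil (x y : D.M) : Bool := xor (xor (D.q (x + y)) (D.q x)) (D.q y)

theorem Data.cl_one : D.cl 1 = 0 := (D.cl_ker 1 (one_mem J)).2 (Or.inl rfl)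

theorem Data.cl_inv {a : G} (ha : a ∈ J) : D.cl a⁻¹ = -D.cl a := by
  rw [eq_neg_iff_add_eq_zero, ← D.cl_mul _ (inv_mem ha) _ ha, inv_mul_cancel, D.cl_one]

theorem Data.eq_or {a b : G} (ha : a ∈ J) (hb : b ∈ J) (e : D.cl a = D.cl b) :
    a = b ∨ a = b * z := by
  have h0 : D.cl (b⁻¹ * a) = 0 := by
    rw [D.cl_mul _ (inv_mem hb) _ ha, D.cl_inv hb, e, neg_add_cancel]
  rcases (D.cl_ker _ (mul_mem (inv_mem hb) ha)).1 h0 with e' | e'
  · exact Or.inl (inv_mul_eq_one.1 e').symm
  · exact Or.inr (inv_mul_eq_iff_eq_mul.1 e')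

include h

theorem Data.sq_q {a : G} (ha : a ∈ J) : a * a = if D.q (D.cl a) then z else 1 := by
  classical
  have hz : Commute z a := z_comm h (h.le_cent ha)
  have he : D.rep (D.cl a) * D.rep (D.cl a) = a * a := by
    rcases D.eq_or (D.rep_mem _) ha (D.cl_rep _) with e | e <;> rw [e]
    rw [mul_assoc, ← mul_assoc z a z, hz.eq, mul_assoc a z z, h.sq, mul_one]
  rw [Data.q, he]
  rcases h.sq_mem a ha with e | e
  · simp [e, Ne.symm h.ne_one]
  · simp [e]

theorem Data.q_zero : D.q 0 = false := by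
  have e := D.sq_q h (one_mem J)
  rw [D.cl_one, mul_one] at e
  cases hq : D.q 0
  · rfl
  · rw [hq, if_pos rfl] at e; exact absurd e.symm h.ne_one

theorem Data.comm_bil {a b : G} (ha : a ∈ J) (hb : b ∈ J) :
    a * b = b * a * if D.bil (D.cl a) (D.cl b) then z else 1 := by
  have e1 := D.sq_q h ha
  have e2 := D.sq_q h hb
  have e3 := D.sq_q h (mul_mem ha hb)
  rw [D.cl_mul a ha b hb] at e3
  rcases h.comm_mem a ha b hb with e | e
  · have : a * b * (a * b) = a * a * (b * b) := by
      rw [mul_assoc, ← mul_assoc b, ← e, mul_assoc a b, ← mul_assoc a a]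
    rw [this, e1, e2] at e3
    unfold Data.bil
    revert e3
    cases D.q (D.cl a) <;> cases D.q (D.cl b) <;> cases D.q (D.cl a + D.cl b) <;>
      simp [h.sq, h.ne_one, h.ne_one.symm, e]
  · have hzb : Commute z b := z_comm h (h.le_cent hb)
    have e' : b * a = a * b * z := by rw [e, mul_assoc, h.sq, mul_one]
    have : a * b * (a * b) = a * a * (b * b) * z := by
      rw [mul_assoc, ← mul_assoc b, e', mul_assoc, hzb.eq]
      simp only [mul_assoc]
    rw [this, e1, e2] at e3
    unfold Data.bil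
    revert e3
    cases D.q (D.cl a) <;> cases D.q (D.cl b) <;> cases D.q (D.cl a + D.cl b) <;>
      simp [h.sq, h.ne_one, h.ne_one.symm, e]

theorem Data.bil_symm (x y : D.M) : D.bil x y = D.bil y x := by
  unfold Data.bil
  rw [add_comm y x]
  cases D.q (x + y) <;> cases D.q x <;> cases D.q y <;> rfl

theorem Data.bil_add_right (x y w : D.M) : D.bil x (y + w) = xor (D.bil x y) (D.bil x w) := by
  have e1 := D.comm_bil h (D.rep_mem x) (D.rep_mem y)
  have e2 := D.comm_bil h (D.rep_mem x) (D.rep_mem w)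
  have e3 := D.comm_bil h (D.rep_mem x) (mul_mem (D.rep_mem y) (D.rep_mem w))
  rw [D.cl_rep, D.cl_rep] at e1 e2
  rw [D.cl_mul _ (D.rep_mem y) _ (D.rep_mem w), D.cl_rep, D.cl_rep, D.cl_rep] at e3
  set a := D.rep x
  set b := D.rep y
  set c := D.rep w
  have hcz : Commute z c := z_comm h (h.le_cent (D.rep_mem w))
  rw [← mul_assoc a b c, e1] at e3
  revert e2 e3
  cases D.bil x y <;> cases D.bil x w <;> cases D.bil x (y + w) <;>
    simp only [if_true, Bool.false_eq_true, if_false, mul_one, mul_assoc, Bool.xor_false,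
      Bool.xor_true, Bool.not_false, Bool.not_true, implies_true] <;>
    intro e2 e3 <;>
    simp only [hcz.eq, ← mul_assoc, e2] at e3 <;>
    simp [mul_assoc, ← mul_assoc a c z, e2, h.sq, h.ne_one, h.ne_one.symm] at e3

theorem Data.bil_zero_right (x : D.M) : D.bil x 0 = false := by
  have := D.bil_add_right h x 0 0
  rw [add_zero, Bool.xor_self] at this
  exact this

theorem Data.eq_zero_of_bil (x : D.M) (hx : ∀ y, D.bil x y = false) : x = 0 := by
  rw [← D.cl_rep x]
  refine (D.cl_ker _ (D.rep_mem x)).2 (h.center _ (D.rep_mem x) fun b hb => ?_)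
  have := D.comm_bil h (D.rep_mem x) hb
  rw [D.cl_rep, hx, if_neg Bool.false_ne_true, mul_one] at this
  exact this

theorem Data.q_op (g : Cfsg.PSp 2 F) (x : D.M) : D.q (op D.ρb g x) = D.q x := by
  obtain ⟨k, rfl⟩ := h.π_surj g
  rw [op_apply, ← D.cl_rep x, ← D.conj k _ (D.rep_mem x), D.cl_rep]
  have e1 := D.sq_q h (h.conj_mem k k.2 _ (D.rep_mem x))
  have e2 := D.sq_q h (D.rep_mem x)
  rw [D.cl_rep] at e2
  rw [show (k : G) * D.rep x * (k : G)⁻¹ * ((k : G) * D.rep x * (k : G)⁻¹) =
    (k : G) * (D.rep x * D.rep x) * (k : G)⁻¹ by group, e2] at e1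
  have hk : (k : G) * z * (k : G)⁻¹ = z := by
    rw [← (z_comm h k.2).eq, mul_inv_cancel_right]
  revert e1
  cases D.q x <;> cases D.q (D.cl ((k : G) * D.rep x * (k : G)⁻¹)) <;>
    simp [hk, h.ne_one, h.ne_one.symm]

theorem Data.bil_op (g : Cfsg.PSp 2 F) (x y : D.M) :
    D.bil (op D.ρb g x) (op D.ρb g y) = D.bil x y := by
  unfold Data.bil
  rw [← map_add, D.q_op h, D.q_op h, D.q_op h]

end H50.U6C
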