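import Cfsg.Agent.H50.U6C.Model

/-!
A simple group of order 25920 acting by isometries of the hermitian space acts as the group
generated by the transvections.
-/

set_option autoImplicit false

namespace H50.U6C

open H38.U6C

variable {P : Type*} [Group P] [IsSimpleGroup P]

theorem range_eq (r : P →* Equiv.Perm V) (hr : Function.Injective r) (hcard : Nat.card P = 25920)
    (hle : r.range ≤ isom) : r.range = uGroup := by
  have hord : orderOf omegaPerm = 3 := by
    have : Fact (Nat.Prime 3) := ⟨Nat.prime_three⟩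
    exact orderOf_eq_prime omegaPerm_cube omegaPerm_ne_one
  have hK : Subgroup.zpowers omegaPerm ≤ isom := Subgroup.zpowers_le.2 omegaPerm_mem
  have hdis : ∀ p : P, r p ∈ Subgroup.zpowers omegaPerm → p = 1 := by
    intro p hp
    have hcom : ∀ x : P, Commute x p := fun x => by
      obtain ⟨n, hn⟩ := hp
      have h1 : Commute (r x) omegaPerm := omegaPerm_comm (hle ⟨x, rfl⟩)
      have h2 : Commute (r x) (r p) := by
        rw [← hn]
        exact h1.zpow_right n
      exact hr (by rw [map_mul, map_mul]; exact h2.eq)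
    have : (Subgroup.zpowers p).Normal := ⟨fun n hn g => by
      obtain ⟨k, rfl⟩ := hn
      rw [((hcom g).zpow_right k).eq, mul_inv_cancel_right]
      exact ⟨k, rfl⟩⟩
    rcases IsSimpleGroup.eq_bot_or_eq_top_of_normal _ this with h | h
    · exact Subgroup.zpowers_eq_bot.1 h
    · exfalso
      have h1 : orderOf p = 25920 := by rw [← Nat.card_zpowers, h, Subgroup.card_top, hcard]
      have h3 : orderOf (r p) ∣ orderOf omegaPerm := orderOf_dvd_of_mem_zpowers hp
      rw [orderOf_injective r hr, h1, hord] at h3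
      norm_num at h3
  let f : P × Subgroup.zpowers omegaPerm → isom := fun x =>
    ⟨r x.1 * (x.2 : Equiv.Perm V), mul_mem (hle ⟨_, rfl⟩) (hK x.2.2)⟩
  have hf : Function.Injective f := by
    rintro ⟨p, k⟩ ⟨q, l⟩ h
    have h' : r p * (k : Equiv.Perm V) = r q * l := congrArg Subtype.val h
    have h'' : r (q⁻¹ * p) = (l : Equiv.Perm V) * (k : Equiv.Perm V)⁻¹ := by
      rw [map_mul, map_inv, eq_mul_inv_iff_mul_eq, mul_assoc, h', inv_mul_cancel_left]
    have hp := hdis _ (h'' ▸ mul_mem l.2 (inv_mem k.2))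
    rw [inv_mul_eq_one] at hp
    subst hp
    rw [mul_right_inj] at h'
    rw [Subtype.ext h']
  have hcardf : Nat.card (P × Subgroup.zpowers omegaPerm) = 77760 := by
    rw [Nat.card_prod, hcard, Nat.card_zpowers, hord]
  have hsurj : Function.Surjective f := (hf.bijective_of_nat_card_le
    (by rw [hcardf]; exact card_isom_le)).2
  have htv : ∀ i, tv i ∈ r.range := by
    intro i
    obtain ⟨⟨p, k⟩, h⟩ := hsurj ⟨tv i, tv_mem_isom i⟩
    have h' : r p * (k : Equiv.Perm V) = tv i := congrArg Subtype.val h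
    have hc : Commute (r p) (k : Equiv.Perm V) := by
      obtain ⟨n, hn⟩ := k.2
      rw [← hn]
      exact Commute.zpow_right (omegaPerm_comm (hle ⟨p, rfl⟩)) n
    have h2 : r (p * p) = ((k : Equiv.Perm V) * k)⁻¹ := by
      rw [map_mul, eq_inv_iff_mul_eq_one, ← pow_two, ← pow_two, ← hc.mul_pow, h', pow_two, tv_sq]
    have hpp := hdis _ (h2 ▸ inv_mem (mul_mem k.2 k.2))
    have hk2 : (k : Equiv.Perm V) ^ 2 = 1 := by
      rw [hpp, map_one, eq_comm, inv_eq_one] at h2
      rw [pow_two, h2]
    have hk3 : (k : Equiv.Perm V) ^ 3 = 1 := by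
      obtain ⟨n, hn⟩ := k.2
      rw [← hn, ← zpow_natCast, ← zpow_mul, mul_comm, zpow_mul, zpow_natCast, omegaPerm_cube,
        one_zpow]
    have hk1 : (k : Equiv.Perm V) = 1 := by
      rwa [pow_succ, hk2, one_mul] at hk3
    exact ⟨p, by rw [← h', hk1, mul_one]⟩
  have hU : uGroup ≤ r.range := (Subgroup.closure_le _).2 fun _ ⟨i, hi⟩ => hi ▸ htv i
  let N : Subgroup P := uGroup.comap r
  have : N.Normal := ⟨fun n hn g => by
    show r (g * n * g⁻¹) ∈ uGroup
    rw [map_mul, map_mul, map_inv]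
    have hconj : uGroup.map (MulAut.conj (r g)).toMonoidHom ≤ uGroup := by
      rw [uGroup, MonoidHom.map_closure, Subgroup.closure_le]
      rintro _ ⟨_, ⟨i, rfl⟩, rfl⟩
      obtain ⟨j, hj⟩ := isom_conj_tv (hle ⟨g, rfl⟩) i
      exact Subgroup.subset_closure ⟨j, by simp [hj]⟩
    exact hconj ⟨r n, hn, rfl⟩⟩
  rcases IsSimpleGroup.eq_bot_or_eq_top_of_normal N ‹_› with h | h
  · exfalso
    obtain ⟨p, hp⟩ := htv 0
    have hm : p ∈ N := by
      show r p ∈ uGroup
      rw [hp]
      exact Subgroup.subset_closure ⟨0, rfl⟩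
    rw [h, Subgroup.mem_bot] at hm
    rw [hm, map_one] at hp
    exact tv_zero_ne_one hp.symm
  · refine le_antisymm ?_ hU
    rintro _ ⟨p, rfl⟩
    exact (h.symm ▸ Subgroup.mem_top p : p ∈ N)

end H50.U6C
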