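import Cfsg.Agent.H38.U6C.Stmts
import Cfsg.Agent.H50.U6C.Form
import Cfsg.Agent.H50.U6C.Range

/-!
The core modulo its centre is the natural module of the unitary group or has two fixed dimensions.
-/

set_option autoImplicit false
set_option linter.unusedSectionVars false

namespace H50.U6C

open H38.U6C

universe u v

variable {G : Type u} [Group G] [Finite G] {z : G} {J : Subgroup G}
variable {F : Type v} [Field F] [Fintype F]
variable {π : ↥(Subgroup.centralizer ({z} : Set G)) →* Cfsg.PSp 2 F}

theorem add_self_zero {M : Type*} [AddCommGroup M] [Module (ZMod 2) M] (x : M) : x + x = 0 := by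
  rw [← two_smul (ZMod 2) x, show (2 : ZMod 2) = 0 from rfl, zero_smul]

theorem add_add_cancel {M : Type*} [AddCommGroup M] [Module (ZMod 2) M] (x y : M) :
    x + (x + y) = y ∧ x + (y + x) = y ∧ y + x + x = y ∧ x + y + x = y := by
  refine ⟨?_, ?_, ?_, ?_⟩
  · rw [← add_assoc, add_self_zero, zero_add]
  · rw [add_comm y x, ← add_assoc, add_self_zero, zero_add]
  · rw [add_assoc, add_self_zero, add_zero]
  · rw [add_comm x y, add_assoc, add_self_zero, add_zero]

theorem four_elts {M : Type*} [AddCommGroup M] [Module (ZMod 2) M] [Finite M]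
    (R : Submodule (ZMod 2) M) (hR : Module.finrank (ZMod 2) R = 2) {x y : M} (hx : x ∈ R)
    (hy : y ∈ R) (hx0 : x ≠ 0) (hy0 : y ≠ 0) (hxy : x ≠ y) {r : M} (hr : r ∈ R) :
    r = 0 ∨ r = x ∨ r = y ∨ r = x + y := by
  have hs : ({0, x, y, x + y} : Set M) = R := by
    refine Set.eq_of_subset_of_ncard_le ?_ ?_
    · rintro _ (rfl | rfl | rfl | rfl)
      exacts [R.zero_mem, hx, hy, R.add_mem hx hy]
    · have hc : (R : Set M).ncard = 4 := by
        rw [← Nat.card_coe_set_eq]
        have := Module.natCard_eq_pow_finrank (K := ZMod 2) (V := R)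
        rw [hR, Nat.card_zmod] at this
        exact this
      have h1 : x + y ≠ 0 := fun e => hxy (by
        rw [← add_zero x, ← add_self_zero y, ← add_assoc, e, zero_add])
      have h2 : x + y ≠ x := fun e => hy0 (by simpa using e)
      have h3 : x + y ≠ y := fun e => hx0 (by simpa using e)
      rw [hc, Set.ncard_insert_of_notMem (by simp [hx0.symm, hy0.symm, h1.symm]),
        Set.ncard_insert_of_notMem (by simp [hxy, h2.symm]), Set.ncard_pair h3.symm]
  have : r ∈ ({0, x, y, x + y} : Set M) := hs ▸ hr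
  simpa using this

section fixed

variable (h : Base z J π) (D : Data z J π)

include h

theorem fixed_case (t : Cfsg.PSp 2 F)
    (hrk : rk (1 + op D.ρb t + op D.ρb t * op D.ρb t) = 2)
    (hfix : ∀ g, op D.ρb g * (1 + op D.ρb t + op D.ρb t * op D.ρb t) =
      1 + op D.ρb t + op D.ρb t * op D.ρb t) :
    ∃ U : Subgroup G, Fixed2 z J U := by
  set a := op D.ρb t with ha
  set p := 1 + a + a * a with hp
  let R := LinearMap.range p
  let U : Subgroup G :=
    { carrier := {x | x ∈ J ∧ D.cl x ∈ R}
      one_mem' := ⟨one_mem J, by rw [D.cl_one]; exact R.zero_mem⟩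
      mul_mem' := fun {x y} hx hy => ⟨mul_mem hx.1 hy.1, by
        rw [D.cl_mul _ hx.1 _ hy.1]; exact R.add_mem hx.2 hy.2⟩
      inv_mem' := fun {x} hx => ⟨inv_mem hx.1, by
        rw [D.cl_inv hx.1]; exact R.neg_mem hx.2⟩ }
  let f : U →* Multiplicative R :=
    { toFun := fun x => Multiplicative.ofAdd ⟨D.cl x, x.2.2⟩
      map_one' := congrArg Multiplicative.ofAdd (Subtype.ext D.cl_one)
      map_mul' := fun x y => congrArg Multiplicative.ofAdd
        (Subtype.ext (D.cl_mul _ x.2.1 _ y.2.1)) }
  have hf : Function.Surjective f := fun m => by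
    obtain ⟨x, hx, e⟩ := D.cl_surj (m.toAdd : R).1
    exact ⟨⟨x, hx, by rw [e]; exact m.toAdd.2⟩,
      congrArg Multiplicative.ofAdd (Subtype.ext e)⟩
  have hz0 : D.cl z = 0 := (D.cl_ker z h.z_mem).2 (Or.inr rfl)
  have hzU : z ∈ U := ⟨h.z_mem, by rw [hz0]; exact R.zero_mem⟩
  have hkerU : Nat.card f.ker = 2 := by
    have e : Set.range (fun x : f.ker => ((x : U) : G)) = {1, z} := by
      ext x
      simp only [Set.mem_range, Set.mem_insert_iff, Set.mem_singleton_iff]
      constructor
      · rintro ⟨⟨y, hy⟩, rfl⟩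
        exact (D.cl_ker _ y.2.1).1 (congrArg Subtype.val (Multiplicative.ofAdd.injective hy))
      · rintro (rfl | rfl)
        · exact ⟨1, rfl⟩
        · exact ⟨⟨⟨x, hzU⟩, congrArg Multiplicative.ofAdd (Subtype.ext hz0)⟩, rfl⟩
    have e' := congrArg Set.ncard e
    rwa [Set.ncard_pair h.ne_one.symm, ← Nat.card_coe_set_eq,
      Nat.card_range_of_injective (fun a b hab => Subtype.ext (Subtype.ext hab))] at e'
  refine ⟨U, ⟨fun x hx => hx.1, hzU, ?_, fun u hu hc => ?_, fun g hg u hu => ?_⟩⟩
  · have h1 := Subgroup.card_mul_index f.ker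
    rw [Subgroup.index_ker, MonoidHom.range_eq_top.2 hf, Subgroup.card_top, hkerU] at h1
    have h2 : Nat.card (Multiplicative R) = Nat.card R := rfl
    have h3 := Module.natCard_eq_pow_finrank (K := ZMod 2) (V := R)
    rw [show Module.finrank (ZMod 2) R = 2 from hrk, Nat.card_zmod] at h3
    rw [← h1, h2, h3]; norm_num
  · refine (D.cl_ker u hu.1).1 (D.eq_zero_of_bil h _ fun y => ?_)
    have hy : y = p y + (a y + a (a y)) := by
      have e : p y = y + (a y + a (a y)) := by
        simp only [hp, LinearMap.add_apply, Module.End.one_apply, Module.End.mul_apply]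
        exact add_assoc _ _ _
      rw [e, add_assoc, add_self_zero, add_zero]
    have hax : a (D.cl u) = D.cl u := by
      obtain ⟨w, hw⟩ := hu.2
      rw [← hw]
      exact LinearMap.congr_fun (hfix t) w
    rw [hy, D.bil_add_right h, D.bil_add_right h]
    have e1 : D.bil (D.cl u) (a y) = D.bil (D.cl u) y := by
      conv_lhs => rw [← hax]
      exact D.bil_op h t _ _
    have e2 : D.bil (D.cl u) (a (a y)) = D.bil (D.cl u) (a y) := by
      conv_lhs => rw [← hax]
      exact D.bil_op h t _ _
    rw [e2, Bool.xor_self, Bool.xor_false]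
    obtain ⟨b, hb, hbe⟩ := D.cl_surj (p y)
    have hbU : b ∈ U := ⟨hb, ⟨y, hbe.symm⟩⟩
    have e := D.comm_bil h hu.1 hb
    rw [hbe, (hc b hbU).eq] at e
    cases hB : D.bil (D.cl u) (p y)
    · rfl
    · rw [hB, if_pos rfl] at e
      exact absurd (left_eq_mul.1 e) h.ne_one
  · have hgu := h.conj_mem g hg u hu.1
    have e : D.cl (g * u * g⁻¹) = D.cl u := by
      rw [show g * u * g⁻¹ =
        ((⟨g, hg⟩ : Subgroup.centralizer ({z} : Set G)) : G) * u *
          ((⟨g, hg⟩ : Subgroup.centralizer ({z} : Set G)) : G)⁻¹ from rfl, D.conj _ _ hu.1]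
      obtain ⟨w, hw⟩ := hu.2
      rw [← hw]
      exact LinearMap.congr_fun (hfix _) w
    exact D.eq_or hgu hu.1 e

end fixed

section natural

variable (h : Base z J π) (D : Data z J π) (fr : Frame D.ρb)

include h

theorem fix_idem (i : Fin 4) :
    fixI (fun k => op D.ρb (fr.a k)) i * fixI (fun k => op D.ρb (fr.a k)) i =
      fixI (fun k => op D.ρb (fr.a k)) i := by
  set P := fixI (fun k => op D.ρb (fr.a k)) i with hP
  have hc := fr.cube i
  have h2 : ∀ f : Module.End (ZMod 2) D.M, f + f = 0 := fun f =>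
    LinearMap.ext fun x => add_self_zero (f x)
  have h1 : op D.ρb (fr.a i) * P = P := by
    rw [hP, fixI, mul_add, mul_add, mul_one, ← mul_assoc, hc]
    abel
  calc P * P = P + op D.ρb (fr.a i) * P + op D.ρb (fr.a i) * (op D.ρb (fr.a i) * P) := by
        conv_lhs => arg 1; rw [hP, fixI]
        rw [add_mul, add_mul, one_mul, mul_assoc]
    _ = P := by rw [h1, h1, h2, zero_add]

/-- A vector of each fixed space. -/
theorem exists_vec (i : Fin 4) :
    ∃ v, fixI (fun k => op D.ρb (fr.a k)) i v = v ∧ v ≠ 0 := by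
  set P := fixI (fun k => op D.ρb (fr.a k)) i with hP
  have hne : P ≠ 0 := fun e => by
    have := fr.rank i
    rw [← hP, e, rk_zero] at this
    exact two_ne_zero this.symm
  obtain ⟨x, hx⟩ : ∃ x, P x ≠ 0 := by
    by_contra! hx
    exact hne (LinearMap.ext hx)
  exact ⟨P x, by rw [← Module.End.mul_apply, hP, fix_idem h], hx⟩

theorem act_fix {i : Fin 4} {x : D.M} (hx : fixI (fun k => op D.ρb (fr.a k)) i x = x) :
    op D.ρb (fr.a i) x = x := by
  have h1 : op D.ρb (fr.a i) * fixI (fun k => op D.ρb (fr.a k)) i =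
      fixI (fun k => op D.ρb (fr.a k)) i := by
    rw [fixI, mul_add, mul_add, mul_one, ← mul_assoc, fr.cube i]
    abel
  rw [← hx, ← Module.End.mul_apply, h1]

theorem act_mov {i j : Fin 4} (hij : i ≠ j) {x : D.M}
    (hx : fixI (fun k => op D.ρb (fr.a k)) j x = x) : op D.ρb (fr.a i) x = fr.w x := by
  have hm : movI (fun k => op D.ρb (fr.a k)) i x = x := by
    rw [movI, LinearMap.sub_apply, Module.End.one_apply]
    conv_lhs => arg 2; rw [← hx, ← Module.End.mul_apply, fr.orth i j hij]
    simp
  conv_lhs => rw [← hm]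
  rw [← Module.End.mul_apply, ← fr.mov, Module.End.mul_apply, hm]

theorem w_quad (x : D.M) : fr.w (fr.w x) = fr.w x + x := by
  have e := LinearMap.congr_fun fr.quad x
  simp only [LinearMap.add_apply, Module.End.mul_apply, Module.End.one_apply,
    LinearMap.zero_apply] at e
  calc fr.w (fr.w x) = fr.w (fr.w x) + fr.w x + x + (fr.w x + x) := by
        rw [add_assoc (fr.w (fr.w x)), add_assoc, add_self_zero, add_zero]
    _ = fr.w x + x := by rw [e, zero_add]

theorem fix_w (i : Fin 4) (x : D.M) :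
    fixI (fun k => op D.ρb (fr.a k)) i (fr.w x) =
      fr.w (fixI (fun k => op D.ρb (fr.a k)) i x) := by
  have hc : Commute (fixI (fun k => op D.ρb (fr.a k)) i) fr.w :=
    ((Commute.one_left _).add_left (fr.comm _)).add_left ((fr.comm _).mul_left (fr.comm _))
  exact LinearMap.congr_fun hc.eq x

theorem orth_vec {i j : Fin 4} (hij : i ≠ j) {x y : D.M}
    (hx : fixI (fun k => op D.ρb (fr.a k)) i x = x)
    (hy : fixI (fun k => op D.ρb (fr.a k)) j y = y) : D.bil x y = false := by
  have step : ∀ y, fixI (fun k => op D.ρb (fr.a k)) j y = y → D.bil x y = D.bil x (fr.w y) := by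
    intro y hy
    have := D.bil_op h (fr.a i) x y
    rwa [act_fix h D fr hx, act_mov h D fr hij hy, eq_comm] at this
  have e1 := step y hy
  have e2 := step (fr.w y) (by rw [fix_w h, hy])
  rw [w_quad h, D.bil_add_right h] at e2
  revert e1 e2
  cases D.bil x y <;> cases D.bil x (fr.w y) <;> simp

theorem q_vec {i : Fin 4} {x : D.M}
    (hx : fixI (fun k => op D.ρb (fr.a k)) i x = x) (hx0 : x ≠ 0) : D.q x = true := by
  obtain ⟨j, hj⟩ : ∃ j, j ≠ i := exists_ne i
  have hwq : ∀ y, fixI (fun k => op D.ρb (fr.a k)) i y = y → D.q (fr.w y) = D.q y := fun y hy => by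
    rw [← act_mov h D fr hj hy, D.q_op h]
  cases hq : D.q x
  swap
  · rfl
  exfalso
  have hwx : fixI (fun k => op D.ρb (fr.a k)) i (fr.w x) = fr.w x := by rw [fix_w h, hx]
  have q1 : D.q (fr.w x) = false := by rw [hwq x hx, hq]
  have q2 : D.q (fr.w x + x) = false := by rw [← w_quad h, hwq _ hwx, q1]
  have hb0 : D.bil x x = false := by
    rw [Data.bil, add_self_zero, D.q_zero h, hq]; rfl
  have hb1 : D.bil x (fr.w x) = false := by
    rw [Data.bil, add_comm, q2, hq, q1]; rfl
  have hw0 : fr.w x ≠ 0 := fun e => hx0 (by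
    have := w_quad h D fr x
    rwa [e, map_zero, zero_add, eq_comm] at this)
  have hwne : x ≠ fr.w x := fun e => hx0 (by
    have := w_quad h D fr x
    rw [← e, ← e, add_self_zero] at this
    exact this)
  refine hx0 (D.eq_zero_of_bil h x fun y => ?_)
  set P := fixI (fun k => op D.ρb (fr.a k)) with hP
  have hpart : ∀ k, D.bil x (P k y) = false := by
    intro k
    have hk : P k (P k y) = P k y := by
      rw [← Module.End.mul_apply, hP, fix_idem h]
    by_cases hik : i = k
    · subst hik
      have hmem : ∀ y, P i y = y → y ∈ LinearMap.range (P i) := fun y hy => ⟨y, hy⟩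
      rcases four_elts _ (fr.rank i) (hmem x hx) (hmem _ hwx) hx0 hw0 hwne
        (hmem _ hk) with e | e | e | e <;> rw [e]
      · exact D.bil_zero_right h x
      · exact hb0
      · exact hb1
      · rw [D.bil_add_right h, hb0, hb1]; rfl
    · exact orth_vec h D fr hik hx hk
  have hy : y = P 0 y + P 1 y + P 2 y + P 3 y := (LinearMap.congr_fun fr.sum y).symm
  rw [hy, D.bil_add_right h, D.bil_add_right h, D.bil_add_right h, hpart, hpart, hpart, hpart]
  rfl

/-- The field with four elements acting. -/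
def coef (c : ℕ) (x : D.M) : D.M :=
  (![fun _ => 0, id, fun y => fr.w y, fun y => fr.w y + y] : Fin 4 → D.M → D.M)
    ⟨c % 4, Nat.mod_lt _ (by norm_num)⟩ x

theorem coef_xor {c d : ℕ} (hc : c < 4) (hd : d < 4) (x : D.M) :
    coef D fr (c ^^^ d) x = coef D fr c x + coef D fr d x := by
  interval_cases c <;> interval_cases d <;>
    simp [coef, add_self_zero, (add_add_cancel x (fr.w x)).2.1, (add_add_cancel x (fr.w x)).2.2.1,
      (add_add_cancel (fr.w x) x).1, (add_add_cancel (fr.w x) x).2.2.2, add_comm x (fr.w x)]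

theorem coef_two {c : ℕ} (hc : c < 4) (x : D.M) :
    coef D fr (fmul 2 c) x = fr.w (coef D fr c x) := by
  interval_cases c <;>
    simp [coef, fmul, w_quad h, add_assoc, (add_add_cancel (fr.w x) x).2.1]

theorem coef_fix {i : Fin 4} {x : D.M} (hx : fixI (fun k => op D.ρb (fr.a k)) i x = x) (c : ℕ) :
    fixI (fun k => op D.ρb (fr.a k)) i (coef D fr c x) = coef D fr c x := by
  rcases (show c % 4 = 0 ∨ c % 4 = 1 ∨ c % 4 = 2 ∨ c % 4 = 3 by omega) with e | e | e | e <;>
    simp [coef, e, fix_w h, hx]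

theorem coef_ne {x : D.M} (hx : x ≠ 0) {c : ℕ} (hc : c < 4) (hc0 : c ≠ 0) :
    coef D fr c x ≠ 0 := by
  have hw0 : fr.w x ≠ 0 := fun e => hx (by
    have := w_quad h D fr x
    rwa [e, map_zero, zero_add, eq_comm] at this)
  interval_cases c
  · exact absurd rfl hc0
  · simpa [coef] using hx
  · simpa [coef] using hw0
  · intro e
    have e' : fr.w x + x = 0 := by simpa [coef] using e
    rw [← w_quad h] at e'
    have := w_quad h D fr (fr.w x)
    rw [e', map_zero, zero_add] at this
    exact hw0 this.symm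

include D fr in
theorem natural_case :
    ∃ (φ : G → V) (ρ : ↥(Subgroup.centralizer ({z} : Set G)) →* Equiv.Perm V),
      Nat4 z J φ ρ := by
  choose v hv hv0 using exists_vec h D fr
  set P := fixI (fun k => op D.ρb (fr.a k)) with hP
  let T : Fin 4 → V → D.M := fun i a => coef D fr (coord a i) (v i)
  let Ψ : V → D.M := fun a => T 0 a + T 1 a + T 2 a + T 3 a
  have Tfix : ∀ i a, P i (T i a) = T i a := fun i a => coef_fix h D fr (hv i) _
  have Tadd : ∀ i a b, T i (vadd a b) = T i a + T i b := fun i a b => by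
    simp only [T, coord_vadd]
    exact coef_xor h D fr (coord_lt a _) (coord_lt b _) _
  have Ψadd : ∀ a b, Ψ (vadd a b) = Ψ a + Ψ b := fun a b => by
    simp only [Ψ, Tadd]; abel
  have Ψsmul : ∀ a, Ψ (smul4 2 a) = fr.w (Ψ a) := fun a => by
    have : ∀ i, T i (smul4 2 a) = fr.w (T i a) := fun i => by
      simp only [T, coord_smul4 2 a i.isLt]
      exact coef_two h D fr (coord_lt a _) _
    simp only [Ψ, this, map_add]
  have hPΨ : ∀ k a, P k (Ψ a) = T k a := fun k a => by
    have ho : ∀ k l, k ≠ l → P k (T l a) = 0 := fun k l hl => by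
      rw [← Tfix l a, ← Module.End.mul_apply, hP, fr.orth k l hl, LinearMap.zero_apply]
    match k with
    | 0 => simp [Ψ, ho 0 1 (by decide), ho 0 2 (by decide), ho 0 3 (by decide), Tfix]
    | 1 => simp [Ψ, ho 1 0 (by decide), ho 1 2 (by decide), ho 1 3 (by decide), Tfix]
    | 2 => simp [Ψ, ho 2 0 (by decide), ho 2 1 (by decide), ho 2 3 (by decide), Tfix]
    | 3 => simp [Ψ, ho 3 0 (by decide), ho 3 1 (by decide), ho 3 2 (by decide), Tfix]
  have hinj : Function.Injective Ψ := fun a b e => by
    have e0 : Ψ (vadd a b) = 0 := by rw [Ψadd, e, add_self_zero]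
    have hab : vadd a b = 0 := coord_ext fun i hi => by
      by_contra hne
      have hz : coord (0 : V) i = 0 := by simp [coord]
      rw [hz] at hne
      have := hPΨ ⟨i, hi⟩ (vadd a b)
      rw [e0, map_zero] at this
      exact coef_ne h D fr (hv0 ⟨i, hi⟩) (coord_lt _ _) hne this.symm
    rw [← vadd_zero' a, ← vadd_self b, ← vadd_assoc, hab, vadd_comm, vadd_zero']
  have hcardM : Nat.card D.M = 256 := by
    rw [Module.natCard_eq_pow_finrank (K := ZMod 2) (V := D.M), D.dim, Nat.card_zmod]; norm_num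
  let e : V ≃ D.M := Equiv.ofBijective Ψ (hinj.bijective_of_nat_card_le (by simp [hcardM]))
  have he : ∀ a, e a = Ψ a := fun a => rfl
  have esymm_add : ∀ x y, e.symm (x + y) = vadd (e.symm x) (e.symm y) := fun x y => by
    rw [Equiv.symm_apply_eq, he, Ψadd, ← he, ← he, Equiv.apply_symm_apply, Equiv.apply_symm_apply]
  have esymm_w : ∀ x, e.symm (fr.w x) = smul4 2 (e.symm x) := fun x => by
    rw [Equiv.symm_apply_eq, he, Ψsmul, ← he, Equiv.apply_symm_apply]
  have hqΨ : ∀ a, D.q (Ψ a) = qv a := fun a => by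
    have hq : ∀ x y, D.q (x + y) = xor (xor (D.q x) (D.q y)) (D.bil x y) := fun x y => by
      unfold Data.bil
      cases D.q (x + y) <;> cases D.q x <;> cases D.q y <;> rfl
    have hor : ∀ i j, i ≠ j → D.bil (T i a) (T j a) = false := fun i j hij =>
      orth_vec h D fr hij (Tfix i a) (Tfix j a)
    have hor' : ∀ i j, i ≠ j → D.bil (T j a) (T i a) = false := fun i j hij => by
      rw [D.bil_symm h]; exact hor i j hij
    have b3 : D.bil (T 0 a + T 1 a + T 2 a) (T 3 a) = false := by
      rw [D.bil_symm h, D.bil_add_right h, D.bil_add_right h, hor' 0 3 (by decide),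
        hor' 1 3 (by decide), hor' 2 3 (by decide)]; rfl
    have b2 : D.bil (T 0 a + T 1 a) (T 2 a) = false := by
      rw [D.bil_symm h, D.bil_add_right h, hor' 0 2 (by decide), hor' 1 2 (by decide)]; rfl
    have hT : ∀ i : Fin 4, D.q (T i a) = decide (coord a i ≠ 0) := fun i => by
      by_cases hc : coord a i = 0
      · simp [T, hc, coef, D.q_zero h]
      · simpa [T, hc] using q_vec h D fr (coef_fix h D fr (hv i) _)
          (coef_ne h D fr (hv0 i) (coord_lt a _) hc)
    simp only [Ψ, hq, b3, b2, hor 0 1 (by decide), hT, Bool.xor_false]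
    simp only [qv, herm_eq, hterm]
    exact (show ∀ c0 < 4, ∀ c1 < 4, ∀ c2 < 4, ∀ c3 < 4,
      xor (xor (xor (decide (c0 ≠ 0)) (decide (c1 ≠ 0))) (decide (c2 ≠ 0))) (decide (c3 ≠ 0)) =
      (((fmul (fconj c0) c0 ^^^ fmul (fconj c1) c1) ^^^
        (fmul (fconj c2) c2 ^^^ fmul (fconj c3) c3)) == 1) by decide) _ (coord_lt a _) _
      (coord_lt a _) _ (coord_lt a _) _ (coord_lt a _)
  let r : Cfsg.PSp 2 F →* Equiv.Perm V :=
    { toFun := fun g => (e.trans (D.ρb g).toEquiv).trans e.symm
      map_one' := Equiv.ext fun a => by simp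
      map_mul' := fun g k => Equiv.ext fun a => by simp }
  have hr : ∀ g a, r g a = e.symm (op D.ρb g (e a)) := fun g a => rfl
  have hrinj : Function.Injective r := fun g k hgk => D.inj (LinearEquiv.ext fun x => by
    have := DFunLike.congr_fun hgk (e.symm x)
    simpa [hr, op_apply] using this)
  have hle : r.range ≤ isom := by
    rintro _ ⟨g, rfl⟩
    refine ⟨fun a b => ?_, fun a => ?_, fun a => ?_⟩
    · rw [hr, hr, hr, he, Ψadd, map_add, esymm_add]; rfl
    · rw [hr, hr, he, Ψsmul, ← esymm_w]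
      exact congrArg e.symm (LinearMap.congr_fun (fr.comm g).eq (Ψ a))
    · rw [hr, ← hqΨ, ← he, Equiv.apply_symm_apply, D.q_op h, he, hqΨ]
  have := simple_psp h
  have hrange : (r.comp π).range = uGroup := by
    rw [MonoidHom.range_comp, MonoidHom.range_eq_top.2 h.π_surj, ← MonoidHom.range_eq_map]
    exact range_eq r hrinj (card_psp h) hle
  have hsq : ∀ a ∈ J, a * a = if qv (e.symm (D.cl a)) then z else 1 := fun a ha => by
    rw [← hqΨ, ← he, Equiv.apply_symm_apply]
    exact D.sq_q h ha
  refine ⟨fun g => e.symm (D.cl g), r.comp π,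
    { sq := h.sq
      ne_one := h.ne_one
      le_cent := h.le_cent
      z_mem := h.z_mem
      card_J := h.card_J
      conj_mem := h.conj_mem
      φ_mul := fun a ha b hb => by rw [D.cl_mul a ha b hb, esymm_add]
      φ_surj := fun x => by
        obtain ⟨a, ha, hae⟩ := D.cl_surj (e x)
        exact ⟨a, ha, by rw [hae, Equiv.symm_apply_apply]⟩
      φ_ker := fun a ha => by
        rw [Equiv.symm_apply_eq, ← D.cl_ker a ha]
        have h0 : e 0 = 0 := by
          have := Ψadd 0 0
          rw [vadd_self] at this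
          rw [he, this, add_self_zero]
        rw [h0]
      φ_sq := hsq
      φ_comm := fun a ha b hb => ?_
      ρ_φ := fun g j hj => by
        rw [MonoidHom.comp_apply, hr, Equiv.apply_symm_apply, D.conj g j hj]; rfl
      ρ_ker := fun g => by
        rw [MonoidHom.comp_apply, ← h.π_ker, map_eq_one_iff r hrinj]
      ρ_range := hrange
      card_cent := h.card_cent }⟩
  have hb2 : pol (e.symm (D.cl a)) (e.symm (D.cl b)) = D.bil (D.cl a) (D.cl b) := by
    have hqs : ∀ x, qv (e.symm x) = D.q x := fun x => by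
      rw [← hqΨ, ← he, Equiv.apply_symm_apply]
    have e1 := qv_vadd (e.symm (D.cl a)) (e.symm (D.cl b))
    rw [← esymm_add, hqs, hqs, hqs] at e1
    unfold Data.bil
    rw [e1]
    cases D.q (D.cl a) <;> cases D.q (D.cl b) <;>
      cases pol (e.symm (D.cl a)) (e.symm (D.cl b)) <;> rfl
  rw [hb2]
  exact D.comm_bil h ha hb

end natural

/-- The module is natural, or has two fixed dimensions. -/
theorem module_dichotomy : H38.U6C.ModuleStmt.{u, v} := by
  intro G _ _ F _ _ z J π h
  obtain ⟨D⟩ := nonempty_data h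
  rcases dichotomy D.ρb h.card_F D.inj D.dim with ⟨t, hrk, hfix⟩ | ⟨⟨fr⟩⟩
  · exact Or.inr (fixed_case h D t hrk hfix)
  · exact Or.inl (natural_case h D fr)

end H50.U6C
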