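import Cfsg.Agent.H50.U6C.Split
import Cfsg.Agent.H48.Simple
import Cfsg.Prelude.Def_Classical

/-!
An eight-dimensional module over the field with two elements for the symplectic group in dimension
four over three elements has a fixed vector or a structure over the field with four elements.
-/

set_option autoImplicit false
set_option linter.unusedSectionVars false

namespace H50.U6C

open Matrix
open H48 (sf tv)

section sp

variable {F : Type*} [Field F] [Fintype F] (hF : Fintype.card F = 3)

local notation "W4" => (Fin 2 ⊕ Fin 2 → F)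
local notation "Sp4" => Matrix.symplecticGroup (Fin 2) F

include hF in
theorem three_eq_zero : (3 : F) = 0 := by
  have : CharP F 3 := by
    have : Fact (Nat.Prime 3) := ⟨Nat.prime_three⟩
    exact charP_of_card_eq_prime hF
  exact_mod_cast CharP.cast_eq_zero F 3

include hF in
theorem unit_cases {x : F} (hx : x ≠ 0) : x = 1 ∨ x = -1 := by
  have h := FiniteField.pow_card_sub_one_eq_one x hx
  rw [hF] at h
  exact mul_self_eq_one_iff.1 (by rw [← pow_two]; exact h)

/-- The first basis vector of the Lagrangian. -/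
def e₀ : W4 := Pi.single (Sum.inl 0) 1

/-- The second basis vector of the Lagrangian. -/
def e₁ : W4 := Pi.single (Sum.inl 1) 1

/-- The four lines of the Lagrangian. -/
def lin : Fin 4 → W4 := ![e₀, e₁, e₀ + e₁, e₀ - e₁]

theorem sf_lin (i j : Fin 4) : sf (lin (F := F) i) (lin j) = 0 := by
  rw [H48.sf_apply]
  fin_cases i <;> fin_cases j <;> simp [lin, e₀, e₁]

theorem tv_commute {u v : W4} (h : sf u v = 0) (c d : F) : Commute (tv u c) (tv v d) := by
  refine H48.sp_ext fun x => ?_
  rw [mul_smul, mul_smul]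
  simp only [H48.tv_smul, map_add, map_smul, LinearMap.add_apply, LinearMap.smul_apply, h,
    H48.sf_eq_zero_comm h, smul_eq_mul, mul_zero, add_zero]
  module

include hF in
theorem tv_cube (v : W4) (c : F) : tv v c * tv v c * tv v c = 1 := by
  rw [H48.tv_mul, H48.tv_mul, show c + c + c = 3 * c by ring, three_eq_zero hF, zero_mul,
    H48.tv_zero]

include hF in
theorem tv_prod :
    tv (lin (F := F) 0) 1 * tv (lin 1) 1 * tv (lin 2) 1 * tv (lin 3) 1 = 1 := by
  refine H48.sp_ext fun x => ?_
  simp only [mul_smul, one_smul, H48.tv_smul, map_add, map_smul, LinearMap.add_apply,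
    LinearMap.smul_apply, sf_lin, smul_eq_mul, mul_zero, add_zero]
  have h3 := three_eq_zero hF
  simp only [lin, Matrix.cons_val_zero, Matrix.cons_val_one, Matrix.cons_val_two,
    Matrix.cons_val_three, Matrix.tail_cons, Matrix.head_cons, map_add, map_sub]
  match_scalars
  all_goals first
    | ring1
    | linear_combination (sf x e₀) * h3
    | linear_combination (sf x e₁) * h3

/-- A block-diagonal symplectic element. -/
def blk (A B : Matrix (Fin 2) (Fin 2) F) (h : Aᵀ * B = 1) : Sp4 :=
  ⟨fromBlocks A 0 0 B, by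
    have h' : Bᵀ * A = 1 := by
      have := congrArg Matrix.transpose h
      rwa [transpose_mul, transpose_transpose, transpose_one] at this
    rw [SymplecticGroup.mem_iff', Matrix.J, fromBlocks_transpose, fromBlocks_multiply,
      fromBlocks_multiply]
    simp [h, h']⟩

theorem blk_apply (A B : Matrix (Fin 2) (Fin 2) F) (h : Aᵀ * B = 1) (a b : F) :
    blk A B h • (a • e₀ + b • e₁ : W4) =
      (A 0 0 * a + A 0 1 * b) • e₀ + (A 1 0 * a + A 1 1 * b) • e₁ := by
  rw [H48.spSmulDef]
  funext k
  rcases k with k | k <;> fin_cases k <;>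
    simp [blk, e₀, e₁, mulVec, dotProduct, Fintype.sum_sum_type, Fin.sum_univ_two]

/-- The swap of the two basis vectors. -/
def swpEl : Sp4 := blk !![0, 1; 1, 0] !![0, 1; 1, 0] (by
  ext i j; fin_cases i <;> fin_cases j <;> simp [Matrix.mul_apply, Fin.sum_univ_two])

/-- The shear fixing the first basis vector. -/
def cycEl : Sp4 := blk !![1, 1; 0, 1] !![1, 0; -1, 1] (by
  ext i j; fin_cases i <;> fin_cases j <;> simp [Matrix.mul_apply, Fin.sum_univ_two])

theorem lin_eq (i : Fin 4) : lin (F := F) i =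
    (![1, 0, 1, 1] i : F) • e₀ + (![0, 1, 1, -1] i : F) • e₁ := by
  fin_cases i <;> simp [lin, sub_eq_add_neg]

theorem tv_neg (v : W4) (c : F) : tv (-v) c = tv v c := by
  rw [← neg_one_smul F v, H48.tv_scale]; congr 1; ring

theorem swp_lin (i : Fin 4) :
    tv ((swpEl : Sp4) • lin (F := F) i) (1 : F) = tv (lin (swp i)) 1 := by
  rw [lin_eq i, swpEl, blk_apply]
  fin_cases i
  · simp [lin, swp]
  · simp [lin, swp]
  · simp [lin, swp, add_comm]
  · rw [← tv_neg]; simp [lin, swp, sub_eq_add_neg, add_comm]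

include hF in
theorem cyc_lin (i : Fin 4) :
    tv ((cycEl : Sp4) • lin (F := F) i) (1 : F) = tv (lin (cyc i)) 1 := by
  rw [lin_eq i, cycEl, blk_apply]
  fin_cases i
  · simp [lin, cyc]
  · simp [lin, cyc]
  · rw [← tv_neg]
    have h : (1 : F) + 1 = -1 := by linear_combination three_eq_zero hF
    simp [lin, cyc, h, sub_eq_add_neg, add_comm]
  · rw [← tv_neg]; simp [lin, cyc]

include hF in
theorem exists_lin_perp (v : W4) : ∃ i, sf v (lin i) = 0 := by
  by_cases h0 : sf v (e₀ : W4) = 0
  · exact ⟨0, h0⟩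
  by_cases h1 : sf v (e₁ : W4) = 0
  · exact ⟨1, h1⟩
  rcases unit_cases hF h0 with a | a <;> rcases unit_cases hF h1 with b | b
  · exact ⟨3, by simp [lin, a, b]⟩
  · exact ⟨2, by simp [lin, a, b]⟩
  · exact ⟨2, by simp [lin, a, b]⟩
  · exact ⟨3, by simp [lin, a, b]⟩

theorem tv_not_central : tv (e₀ : W4) (1 : F) ∉ Subgroup.center Sp4 := by
  intro h
  have hc := Subgroup.mem_center_iff.1 h (tv (Pi.single (Sum.inr 0) 1) 1)
  have := congrArg (fun g => g • (e₀ : W4)) hc
  simp only [mul_smul, H48.tv_smul] at this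
  have h2 := congrFun this (Sum.inl 0)
  simp [e₀, H48.sf_apply, Fin.sum_univ_two] at h2

end sp

section module

variable {F : Type*} [Field F] [Fintype F]
variable {V : Type*} [AddCommGroup V] [Module (ZMod 2) V] [FiniteDimensional (ZMod 2) V]
variable (ρ : Cfsg.PSp 2 F →* (V ≃ₗ[ZMod 2] V))

/-- The operator of an element. -/
def op : Cfsg.PSp 2 F →* Module.End (ZMod 2) V :=
  (LinearEquiv.automorphismGroup.toLinearMapMonoidHom (R := ZMod 2) (M := V)).comp ρ

theorem op_apply (g : Cfsg.PSp 2 F) (v : V) : op ρ g v = ρ g v := rfl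

theorem op_conj (g h : Cfsg.PSp 2 F) : (ρ g).conj (op ρ h) = op ρ (g * h * g⁻¹) := by
  refine LinearMap.ext fun v => ?_
  rw [LinearEquiv.conj_apply]
  simp only [LinearMap.comp_apply, LinearEquiv.coe_coe, op_apply]
  rw [map_mul, map_mul, map_inv]
  rfl

/-- The transvection of a line of the Lagrangian. -/
noncomputable def linEl (i : Fin 4) : Cfsg.PSp 2 F := QuotientGroup.mk (tv (lin i) 1)

variable (hF : Fintype.card F = 3)

/-- The four operators of a representation. -/
noncomputable def four : Four V where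
  a i := op ρ (linEl i)
  cube i := by
    rw [linEl, ← map_mul, ← map_mul, ← QuotientGroup.mk_mul, ← QuotientGroup.mk_mul, tv_cube hF,
      QuotientGroup.mk_one, map_one]
  comm i j := ((tv_commute (sf_lin i j) 1 1).map (QuotientGroup.mk' _)).map (op ρ)
  prod := by
    simp only [linEl]
    rw [← map_mul, ← map_mul, ← map_mul, ← QuotientGroup.mk_mul, ← QuotientGroup.mk_mul,
      ← QuotientGroup.mk_mul, tv_prod hF, QuotientGroup.mk_one, map_one]

theorem four_a (i : Fin 4) : (four ρ hF).a i = op ρ (linEl i) := rfl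

theorem perms_of {g : Matrix.symplecticGroup (Fin 2) F} {π : Fin 4 → Fin 4}
    (h : ∀ i, tv (g • lin i) (1 : F) = tv (lin (π i)) 1) :
    Perms (four ρ hF) (ρ (QuotientGroup.mk g)) π := fun i => by
  rw [four_a, four_a, op_conj, linEl, ← QuotientGroup.mk_inv, ← QuotientGroup.mk_mul,
    ← QuotientGroup.mk_mul, H48.tv_conj, h]
  rfl

/-- A module structure over the field with four elements, split along four fixed spaces. -/
structure Frame where
  w : Module.End (ZMod 2) V
  quad : w * w + w + 1 = 0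
  comm : ∀ g, Commute (op ρ g) w
  a : Fin 4 → Cfsg.PSp 2 F
  cube : ∀ i, op ρ (a i) * op ρ (a i) * op ρ (a i) = 1
  orth : ∀ i j, i ≠ j → fixI (fun k => op ρ (a k)) i * fixI (fun k => op ρ (a k)) j = 0
  sum : fixI (fun k => op ρ (a k)) 0 + fixI (fun k => op ρ (a k)) 1 + fixI (fun k => op ρ (a k)) 2 +
    fixI (fun k => op ρ (a k)) 3 = 1
  rank : ∀ i, rk (fixI (fun k => op ρ (a k)) i) = 2
  mov : ∀ i, w * movI (fun k => op ρ (a k)) i = op ρ (a i) * movI (fun k => op ρ (a k)) i

include hF

theorem commute_of_tv {x : Module.End (ZMod 2) V}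
    (h : ∀ (v : Fin 2 ⊕ Fin 2 → F) (c : F),
      Commute (op ρ (QuotientGroup.mk (tv v c) : Cfsg.PSp 2 F)) x) (g : Cfsg.PSp 2 F) :
    Commute (op ρ g) x := by
  obtain ⟨g, rfl⟩ := QuotientGroup.mk_surjective g
  have hg : g ∈ H48.transGroup (Fin 2) F := by
    rw [H48.transGroup_eq_top]; exact Subgroup.mem_top g
  rw [H48.transGroup, H48.transSet_eq] at hg
  let H : Submonoid (Matrix.symplecticGroup (Fin 2) F) :=
    (Submonoid.centralizer {x}).comap ((op ρ).comp (QuotientGroup.mk' _))
  have hle : (Subgroup.closure {A : Matrix.symplecticGroup (Fin 2) F | ∃ w c, A = tv w c}).toSubmonoid ≤ H := by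
    rw [Subgroup.closure_toSubmonoid_of_finite, Submonoid.closure_le]
    rintro _ ⟨v, c, rfl⟩
    exact Submonoid.mem_centralizer_iff.2 fun y hy => by
      rw [Set.mem_singleton_iff.1 hy]; exact (h v c).eq.symm
  exact (Submonoid.mem_centralizer_iff.1 (hle hg) x rfl).symm

theorem dichotomy (hρ : Function.Injective ρ) (hdim : Module.finrank (ZMod 2) V = 8) :
    (∃ h, rk (1 + op ρ h + op ρ h * op ρ h) = 2 ∧
        ∀ g, op ρ g * (1 + op ρ h + op ρ h * op ρ h) = 1 + op ρ h + op ρ h * op ρ h) ∨
      Nonempty (Frame ρ) := by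
  have hmk : ∀ v c, op ρ (QuotientGroup.mk (tv v c)) * op ρ (QuotientGroup.mk (tv v c)) *
      op ρ (QuotientGroup.mk (tv v c)) = 1 := fun v c => by
    rw [← map_mul, ← map_mul, ← QuotientGroup.mk_mul, ← QuotientGroup.mk_mul, tv_cube hF,
      QuotientGroup.mk_one, map_one]
  have hcom : ∀ v c, ∃ i, Commute (op ρ (QuotientGroup.mk (tv v c))) ((four ρ hF).a i) := by
    intro v c
    obtain ⟨i, hi⟩ := exists_lin_perp hF v
    exact ⟨i, ((tv_commute hi c 1).map (QuotientGroup.mk' _)).map (op ρ)⟩
  have h0 : linEl (F := F) 0 ≠ 1 := fun h => tv_not_central ((QuotientGroup.eq_one_iff _).1 h)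
  have hne : ∃ i, (four ρ hF).a i ≠ 1 := ⟨0, fun h => h0 (hρ (by
    rw [map_one]
    exact LinearEquiv.toLinearMap_injective h))⟩
  rcases decomposition (four ρ hF) (perms_of ρ hF swp_lin) (perms_of ρ hF (cyc_lin hF)) hdim hne with
    ⟨w, hw, hwa, hwM, horth, hsum, hrk⟩ | hB
  · refine Or.inr ⟨⟨w, hw, commute_of_tv ρ hF (fun v c => ?_), linEl, (four ρ hF).cube, horth, hsum,
      hrk, hwM⟩⟩
    obtain ⟨i, hi⟩ := hcom v c
    exact commute_w (four ρ hF) hw hwa hwM hrk (hmk v c) hi
  left
  set p := fixI (four ρ hF).a 0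
  have hp : ∀ g, Commute (op ρ g) p := commute_of_tv ρ hF fun v c => by
    obtain ⟨i, hi⟩ := hcom v c
    have : Commute (op ρ (QuotientGroup.mk (tv v c))) (fixI (four ρ hF).a i) :=
      ((Commute.one_right _).add_right hi).add_right (hi.mul_right hi)
    rwa [(hB i).1] at this
  let N : Subgroup (Cfsg.PSp 2 F) :=
    { carrier := {g | op ρ g * p = p}
      one_mem' := by simp
      mul_mem' := fun {g h} (hg : op ρ g * p = p) (hh : op ρ h * p = p) => by
        show op ρ (g * h) * p = p
        rw [map_mul, mul_assoc, hh, hg]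
      inv_mem' := fun {g} (hg : op ρ g * p = p) => by
        show op ρ g⁻¹ * p = p
        conv_lhs => rw [← hg, ← mul_assoc, ← map_mul, inv_mul_cancel, map_one, one_mul] }
  have : N.Normal := ⟨fun n (hn : op ρ n * p = p) g => by
    show op ρ (g * n * g⁻¹) * p = p
    rw [map_mul, map_mul, mul_assoc, (hp g⁻¹).eq, ← mul_assoc, mul_assoc (op ρ g), hn,
      mul_assoc, ← (hp g⁻¹).eq, ← mul_assoc, ← map_mul, mul_inv_cancel, map_one, one_mul]⟩
  have hlin : linEl (F := F) 0 ∈ N := by
    show op ρ (linEl 0) * p = p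
    have hc := (four ρ hF).cube 0
    show (four ρ hF).a 0 * fixI (four ρ hF).a 0 = fixI (four ρ hF).a 0
    rw [fixI, mul_add, mul_add, mul_one, ← mul_assoc, hc]
    abel
  have : IsSimpleGroup (Cfsg.PSp 2 F) := H48.isSimpleGroup_psp
    (Or.inr (Or.inl ⟨by simp, by omega⟩))
  have htop : N = ⊤ := (this.eq_bot_or_eq_top_of_normal N ‹_›).resolve_left fun hb => h0 (by
    rw [hb] at hlin; exact Subgroup.mem_bot.1 hlin)
  exact ⟨linEl 0, (hB 0).2, fun g => show g ∈ N from htop ▸ Subgroup.mem_top g⟩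

end module

end H50.U6C
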