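import Cfsg.Agent.H38.U6C.Basic
import Cfsg.Agent.H50.U6C.Group

/-!
The core modulo its centre as a faithful module over the field with two elements for the
projective symplectic group.
-/

set_option autoImplicit false
set_option linter.unusedSectionVars false

namespace H50.U6C

open H38.U6C

universe u v

variable {G : Type u} [Group G] {z : G} {J : Subgroup G}
variable {F : Type v} [Field F] [Fintype F]
variable {π : ↥(Subgroup.centralizer ({z} : Set G)) →* Cfsg.PSp 2 F}

variable (z J π) in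
/-- The core modulo `⟨z⟩` with the action of the quotient group. -/
structure Data where
  /-- the space -/
  M : Type u
  [grp : AddCommGroup M]
  [mod : Module (ZMod 2) M]
  [fin : Finite M]
  cl : G → M
  ρb : Cfsg.PSp 2 F →* (M ≃ₗ[ZMod 2] M)
  dim : Module.finrank (ZMod 2) M = 8
  inj : Function.Injective ρb
  cl_mul : ∀ a ∈ J, ∀ b ∈ J, cl (a * b) = cl a + cl b
  cl_surj : ∀ m, ∃ a ∈ J, cl a = m
  cl_ker : ∀ a ∈ J, (cl a = 0 ↔ a = 1 ∨ a = z)
  conj : ∀ (g : ↥(Subgroup.centralizer ({z} : Set G))) (j : G), j ∈ J →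
    cl ((g : G) * j * (g : G)⁻¹) = ρb (π g) (cl j)

attribute [instance] Data.grp Data.mod Data.fin

variable (h : Base z J π)
include h

theorem z_comm {a : G} (ha : a ∈ Subgroup.centralizer ({z} : Set G)) : Commute z a :=
  Subgroup.mem_centralizer_iff.1 ha z rfl

theorem card_psp [Finite G] : Nat.card (Cfsg.PSp 2 F) = 25920 := by
  have hk : π.ker = J.subgroupOf (Subgroup.centralizer ({z} : Set G)) := by
    ext g
    rw [MonoidHom.mem_ker, h.π_ker, Subgroup.mem_subgroupOf]
  have h1 := Subgroup.card_mul_index π.ker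
  rw [Subgroup.index_ker, MonoidHom.range_eq_top.2 h.π_surj, Subgroup.card_top, h.card_cent, hk,
    Nat.card_congr (Subgroup.subgroupOfEquivOfLe h.le_cent).toEquiv, h.card_J] at h1
  exact Nat.eq_of_mul_eq_mul_left (by norm_num) h1

theorem simple_psp : IsSimpleGroup (Cfsg.PSp 2 F) :=
  H48.isSimpleGroup_psp (Or.inr (Or.inl ⟨by simp, by have := h.card_F; omega⟩))

theorem not_comm [Finite G] : ¬ ∀ x y : Cfsg.PSp 2 F, x * y = y * x := by
  intro hc
  have := simple_psp h
  let _ : CommGroup (Cfsg.PSp 2 F) := { (inferInstance : Group (Cfsg.PSp 2 F)) with mul_comm := hc }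
  have hp := IsSimpleGroup.prime_card (α := Cfsg.PSp 2 F)
  rw [card_psp h] at hp
  norm_num at hp

theorem nonempty_data [Finite G] : Nonempty (Data z J π) := by
  classical
  let N : Subgroup J :=
    { carrier := {x | (x : G) = 1 ∨ (x : G) = z}
      one_mem' := Or.inl rfl
      mul_mem' := by
        rintro a b (ha | ha) (hb | hb)
        · exact Or.inl (by rw [Subgroup.coe_mul, ha, hb, one_mul])
        · exact Or.inr (by rw [Subgroup.coe_mul, ha, hb, one_mul])
        · exact Or.inr (by rw [Subgroup.coe_mul, ha, hb, mul_one])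
        · exact Or.inl (by rw [Subgroup.coe_mul, ha, hb, h.sq])
      inv_mem' := by
        rintro a (ha | ha)
        · left; simp [ha]
        · right; simp [ha, inv_eq_of_mul_eq_one_right h.sq] }
  have hmemN : ∀ x : J, x ∈ N ↔ (x : G) = 1 ∨ (x : G) = z := fun _ => Iff.rfl
  have hN : N.Normal := ⟨fun n hn g => by
    rw [hmemN] at hn ⊢
    rcases hn with hn | hn
    · left; simp [hn]
    · right
      show (g : G) * n * (g : G)⁻¹ = z
      rw [hn, ← (z_comm h (h.le_cent g.2)).eq, mul_inv_cancel_right]⟩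
  let _ : CommGroup (J ⧸ N) :=
    { (inferInstance : Group (J ⧸ N)) with
      mul_comm := fun x y => by
        obtain ⟨a, rfl⟩ := QuotientGroup.mk_surjective x
        obtain ⟨b, rfl⟩ := QuotientGroup.mk_surjective y
        rw [← QuotientGroup.mk_mul, ← QuotientGroup.mk_mul, QuotientGroup.eq, hmemN]
        show ((a : G) * b)⁻¹ * ((b : G) * a) = 1 ∨ ((a : G) * b)⁻¹ * ((b : G) * a) = z
        rcases h.comm_mem b b.2 a a.2 with e | e
        · left; rw [e, inv_mul_cancel]
        · right; rw [e, inv_mul_cancel_left] }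
  have h2 : ∀ x : Additive (J ⧸ N), 2 • x = 0 := fun x => by
    obtain ⟨a, ha⟩ := QuotientGroup.mk_surjective x.toMul
    have : (x.toMul) ^ 2 = 1 := by
      rw [← ha, ← QuotientGroup.mk_pow, QuotientGroup.eq_one_iff, hmemN, SubmonoidClass.coe_pow,
        pow_two]
      exact h.sq_mem a a.2
    exact congrArg Additive.ofMul this
  let _ : Module (ZMod 2) (Additive (J ⧸ N)) := AddCommGroup.zmodModule h2
  let cl : G → Additive (J ⧸ N) := fun g =>
    if hg : g ∈ J then Additive.ofMul (QuotientGroup.mk ⟨g, hg⟩) else 0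
  have hcl : ∀ (a : G) (ha : a ∈ J),
      cl a = Additive.ofMul (QuotientGroup.mk (⟨a, ha⟩ : J) : J ⧸ N) := fun a ha => dif_pos ha
  have hmul : ∀ a ∈ J, ∀ b ∈ J, cl (a * b) = cl a + cl b := fun a ha b hb => by
    rw [hcl a ha, hcl b hb, hcl _ (mul_mem ha hb), ← ofMul_mul, ← QuotientGroup.mk_mul]
    rfl
  have hsurj : ∀ m, ∃ a ∈ J, cl a = m := fun m => by
    obtain ⟨⟨a, ha⟩, e⟩ := QuotientGroup.mk_surjective m.toMul
    exact ⟨a, ha, by rw [hcl a ha, e]; rfl⟩
  have hker : ∀ a ∈ J, (cl a = 0 ↔ a = 1 ∨ a = z) := fun a ha => by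
    rw [hcl a ha, ofMul_eq_zero, QuotientGroup.eq_one_iff]
    exact hmemN _
  choose rep hrepJ hrep using hsurj
  have hwd : ∀ g ∈ Subgroup.centralizer ({z} : Set G), ∀ a ∈ J, ∀ b ∈ J, cl a = cl b →
      cl (g * a * g⁻¹) = cl (g * b * g⁻¹) := by
    intro g hg a ha b hb hab
    have h0 : cl (a * b⁻¹) = 0 := by
      have e : cl (a * b⁻¹ * b) = cl (a * b⁻¹) + cl b := hmul _ (mul_mem ha (inv_mem hb)) _ hb
      rw [inv_mul_cancel_right, hab] at e
      exact left_eq_add.1 (e.trans (add_comm _ _))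
    have h1 : g * (a * b⁻¹) * g⁻¹ = a * b⁻¹ := by
      rcases (hker _ (mul_mem ha (inv_mem hb))).1 h0 with e | e <;> rw [e]
      · group
      · rw [← (z_comm h hg).eq, mul_inv_cancel_right]
    rw [show g * a * g⁻¹ = g * (a * b⁻¹) * g⁻¹ * (g * b * g⁻¹) by group, h1,
      hmul _ (mul_mem ha (inv_mem hb)) _ (h.conj_mem g hg b hb), h0, zero_add]
  have hconj : ∀ g ∈ Subgroup.centralizer ({z} : Set G), ∀ a ∈ J,
      cl (g * rep (cl a) * g⁻¹) = cl (g * a * g⁻¹) := fun g hg a ha =>
    hwd g hg _ (hrepJ _) a ha (hrep _)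
  let ρ0 : ↥(Subgroup.centralizer ({z} : Set G)) →*
      (Additive (J ⧸ N) ≃ₗ[ZMod 2] Additive (J ⧸ N)) := by
    let e : ↥(Subgroup.centralizer ({z} : Set G)) →
        (Additive (J ⧸ N) →ₗ[ZMod 2] Additive (J ⧸ N)) := fun g =>
      AddMonoidHom.toZModLinearMap 2 (AddMonoidHom.mk' (fun m => cl ((g : G) * rep m * (g : G)⁻¹))
        fun m n => by
          have e1 := hwd g g.2 (rep (m + n)) (hrepJ _) (rep m * rep n)
            (mul_mem (hrepJ _) (hrepJ _)) (by rw [hmul _ (hrepJ _) _ (hrepJ _), hrep, hrep, hrep])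
          rw [e1, show (g : G) * (rep m * rep n) * (g : G)⁻¹ =
            (g : G) * rep m * (g : G)⁻¹ * ((g : G) * rep n * (g : G)⁻¹) by group,
            hmul _ (h.conj_mem g g.2 _ (hrepJ _)) _ (h.conj_mem g g.2 _ (hrepJ _))])
    have e1 : e 1 = LinearMap.id := LinearMap.ext fun m => by simp [e, hrep]
    have emul : ∀ g k, e (g * k) = (e g).comp (e k) := fun g k => LinearMap.ext fun m => by
      show cl ((g * k : G) * rep m * (g * k : G)⁻¹) =
        cl ((g : G) * rep (cl ((k : G) * rep m * (k : G)⁻¹)) * (g : G)⁻¹)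
      rw [hconj g g.2 _ (h.conj_mem k k.2 _ (hrepJ _))]
      group
    exact
      { toFun := fun g => LinearEquiv.ofLinearMap (e g) (e g⁻¹)
          (by rw [← emul, mul_inv_cancel, e1]) (by rw [← emul, inv_mul_cancel, e1])
        map_one' := LinearEquiv.ext fun m => LinearMap.congr_fun e1 m
        map_mul' := fun g k => LinearEquiv.ext fun m => LinearMap.congr_fun (emul g k) m }
  have hρ0 : ∀ g a, a ∈ J → ρ0 g (cl a) = cl ((g : G) * a * (g : G)⁻¹) := fun g a ha =>
    hconj g g.2 a ha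
  have hkerle : π.ker ≤ ρ0.ker := fun g hg => by
    have hgJ : (g : G) ∈ J := (h.π_ker g).1 hg
    rw [MonoidHom.mem_ker]
    refine LinearEquiv.ext fun m => ?_
    obtain ⟨a, ha, rfl⟩ : ∃ a ∈ J, cl a = m := ⟨_, hrepJ m, hrep m⟩
    rw [hρ0 g a ha, hmul _ (mul_mem hgJ ha) _ (inv_mem hgJ), hmul _ hgJ _ ha, add_comm (cl (g : G)),
      add_assoc, ← hmul _ hgJ _ (inv_mem hgJ), mul_inv_cancel, (hker _ (one_mem J)).2 (Or.inl rfl),
      add_zero]
    rfl
  let ρb : Cfsg.PSp 2 F →* (Additive (J ⧸ N) ≃ₗ[ZMod 2] Additive (J ⧸ N)) :=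
    π.liftOfSurjective h.π_surj ⟨ρ0, hkerle⟩
  have hρb : ∀ g, ρb (π g) = ρ0 g := fun g =>
    MonoidHom.liftOfRightInverse_comp_apply _ _ _ _ g
  have hinj : Function.Injective ρb := by
    have := simple_psp h
    refine (MonoidHom.ker_eq_bot_iff ρb).1
      ((IsSimpleGroup.eq_bot_or_eq_top_of_normal ρb.ker inferInstance).resolve_right fun htop => ?_)
    refine not_comm h fun x y => ?_
    obtain ⟨g, rfl⟩ := h.π_surj x
    obtain ⟨k, rfl⟩ := h.π_surj y
    have hfix : ∀ (g : ↥(Subgroup.centralizer ({z} : Set G))), ∀ j ∈ J,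
        (g : G) * j * (g : G)⁻¹ = j ∨ (g : G) * j * (g : G)⁻¹ = j * z := fun g j hj => by
      have e : cl ((g : G) * j * (g : G)⁻¹) = cl j := by
        rw [← hρ0 g j hj, ← hρb, MonoidHom.mem_ker.1 (htop ▸ Subgroup.mem_top (π g) : π g ∈ ρb.ker)]
        rfl
      have hgj := h.conj_mem g g.2 j hj
      have e0 : cl (j⁻¹ * ((g : G) * j * (g : G)⁻¹)) = 0 := by
        rw [hmul _ (inv_mem hj) _ hgj, e, ← hmul _ (inv_mem hj) _ hj, inv_mul_cancel,
          (hker _ (one_mem J)).2 (Or.inl rfl)]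
      rcases (hker _ (mul_mem (inv_mem hj) hgj)).1 e0 with e' | e'
      · left; exact (inv_mul_eq_one.1 e').symm
      · right; exact inv_mul_eq_iff_eq_mul.1 e'
    have hjj : ∀ j ∈ J, (g : G) * ((k : G) * j * (k : G)⁻¹) * (g : G)⁻¹ =
        (k : G) * ((g : G) * j * (g : G)⁻¹) * (k : G)⁻¹ := fun j hj => by
      have hg' : (g : G) * z * (g : G)⁻¹ = z := by
        rw [← (z_comm h g.2).eq, mul_inv_cancel_right]
      have hk' : (k : G) * z * (k : G)⁻¹ = z := by
        rw [← (z_comm h k.2).eq, mul_inv_cancel_right]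
      have split : ∀ a b c : G, a * (b * c) * a⁻¹ = a * b * a⁻¹ * (a * c * a⁻¹) := fun a b c => by
        group
      rcases hfix g j hj with a | a <;> rcases hfix k j hj with b | b <;>
        simp only [a, b, split, hg', hk']
    have hmem : ((g * k * (k * g)⁻¹ : ↥(Subgroup.centralizer ({z} : Set G))) : G) ∈ J := by
      refine h.self_cent _ (SetLike.coe_mem _) fun j hj => ?_
      have hj' : (g : G)⁻¹ * ((k : G)⁻¹ * j * (k : G)) * (g : G) ∈ J := by
        have := h.conj_mem _ (inv_mem g.2) _ (h.conj_mem _ (inv_mem k.2) j hj)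
        simpa using this
      have e := hjj _ hj'
      simp only [mul_assoc, mul_inv_cancel_left, mul_inv_cancel, mul_one] at e
      rw [commute_iff_eq, ← mul_inv_eq_iff_eq_mul]
      push_cast
      simpa [mul_assoc] using e
    have := (h.π_ker _).2 hmem
    rw [map_mul, map_inv, mul_inv_eq_one, map_mul, map_mul] at this
    exact this
  refine ⟨{ M := Additive (J ⧸ N)
            cl := cl
            ρb := ρb
            dim := ?_
            inj := hinj
            cl_mul := hmul
            cl_surj := fun m => ⟨rep m, hrepJ m, hrep m⟩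
            cl_ker := hker
            conj := fun g j hj => by rw [hρb, hρ0 g j hj] }⟩
  have hNcard : Nat.card N = 2 := by
    have e : Set.range (fun x : N => ((x : J) : G)) = {1, z} := by
      ext x
      simp only [Set.mem_range, Set.mem_insert_iff, Set.mem_singleton_iff]
      constructor
      · rintro ⟨b, rfl⟩; exact (hmemN _).1 b.2
      · rintro (rfl | rfl)
        · exact ⟨1, rfl⟩
        · exact ⟨⟨⟨x, h.z_mem⟩, (hmemN _).2 (Or.inr rfl)⟩, rfl⟩
    rw [← Set.ncard_pair h.ne_one.symm, ← e, ← Nat.card_coe_set_eq,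
      Nat.card_range_of_injective (fun a b hab => Subtype.ext (Subtype.ext hab))]
  have hM : Nat.card (Additive (J ⧸ N)) = 2 ^ 8 := by
    have h1 := Subgroup.card_mul_index N
    rw [hNcard, h.card_J] at h1
    show N.index = 2 ^ 8
    omega
  have h3 := Module.natCard_eq_pow_finrank (K := ZMod 2) (V := Additive (J ⧸ N))
  rw [hM, Nat.card_zmod] at h3
  exact (Nat.pow_right_injective le_rfl h3).symm

end H50.U6C
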