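import Mathlib

/-!
Four commuting operators of order three with product one on an eight-dimensional space over the
field with two elements, permuted transitively enough: the two possible decompositions.
-/

set_option autoImplicit false
set_option linter.unusedSectionVars false

namespace H50.U6C

variable {V : Type*} [AddCommGroup V] [Module (ZMod 2) V] [FiniteDimensional (ZMod 2) V]

/-- The dimension of the image. -/
noncomputable def rk (f : Module.End (ZMod 2) V) : ℕ := Module.finrank (ZMod 2) (LinearMap.range f)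

theorem rk_zero : rk (0 : Module.End (ZMod 2) V) = 0 := by simp [rk]

theorem rk_one : rk (1 : Module.End (ZMod 2) V) = Module.finrank (ZMod 2) V := by
  rw [rk, show LinearMap.range (1 : Module.End (ZMod 2) V) = ⊤ from LinearMap.range_id, finrank_top]

theorem eq_zero_of_rk {f : Module.End (ZMod 2) V} (h : rk f = 0) : f = 0 :=
  LinearMap.range_eq_bot.1 (Submodule.finrank_eq_zero.1 h)

theorem rk_split {p q : Module.End (ZMod 2) V} (_hp : p * p = p) (hq : q * q = q)
    (hpq : Commute p q) : rk p = rk (p * q) + rk (p * (1 - q)) := by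
  have hsup : LinearMap.range (p * q) ⊔ LinearMap.range (p * (1 - q)) = LinearMap.range p := by
    refine le_antisymm (sup_le ?_ ?_) ?_
    · rintro _ ⟨v, rfl⟩; exact ⟨q v, rfl⟩
    · rintro _ ⟨v, rfl⟩; exact ⟨(1 - q) v, rfl⟩
    · rintro _ ⟨v, rfl⟩
      refine Submodule.mem_sup.2 ⟨(p * q) v, ⟨v, rfl⟩, (p * (1 - q)) v, ⟨v, rfl⟩, ?_⟩
      rw [← LinearMap.add_apply, ← mul_add, add_sub_cancel, mul_one]
  have hinf : LinearMap.range (p * q) ⊓ LinearMap.range (p * (1 - q)) = ⊥ := by
    rw [eq_bot_iff]
    rintro _ ⟨⟨v, rfl⟩, w, hw⟩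
    have h1 : q * (p * q) = p * q := by rw [← mul_assoc, ← hpq.eq, mul_assoc, hq]
    have h2 : q * (p * (1 - q)) = 0 := by
      rw [← mul_assoc, ← hpq.eq, mul_assoc, mul_sub, mul_one, hq, sub_self, mul_zero]
    have := congrArg q hw
    rw [← Module.End.mul_apply, h2, ← Module.End.mul_apply, h1, LinearMap.zero_apply] at this
    rw [Submodule.mem_bot, ← this]
  have := Submodule.finrank_sup_add_finrank_inf_eq (LinearMap.range (p * q))
    (LinearMap.range (p * (1 - q)))
  rw [hsup, hinf, finrank_bot, add_zero] at this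
  exact this

theorem rk_conj (σ : V ≃ₗ[ZMod 2] V) (f : Module.End (ZMod 2) V) : rk (σ.conj f) = rk f := by
  rw [rk, rk, LinearEquiv.conj_apply, LinearMap.range_comp_of_range_eq_top _ σ.symm.range,
    LinearMap.range_comp, LinearEquiv.finrank_map_eq]

/-- A subspace with a fixed-point-free operator of order three has even dimension. -/
theorem even_rk {a p : Module.End (ZMod 2) V} (hp : p * p = p) (hap : Commute a p)
    (ha : a * a * a = 1) (hfree : p * (1 + a + a * a) = 0) : Even (rk p) := by
  have hinj : Function.Injective a := fun x y h => by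
    have := congrArg (a * a) h
    rwa [← Module.End.mul_apply, ← Module.End.mul_apply, ha] at this
  have hmem : ∀ x, x ∈ LinearMap.range p → a x ∈ LinearMap.range p := by
    rintro _ ⟨v, rfl⟩
    exact ⟨a v, LinearMap.congr_fun hap.eq.symm v⟩
  have hfin : Finite V := Module.finite_of_finite (ZMod 2)
  have := Fintype.ofFinite (LinearMap.range p)
  classical
  let σ : Equiv.Perm (LinearMap.range p) := Equiv.ofBijective
    (fun x => ⟨a x.1, hmem _ x.2⟩) (Finite.injective_iff_bijective.1 fun x y h =>
      Subtype.ext (hinj (congrArg Subtype.val h)))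
  have h3 : σ ^ 3 ^ 1 = 1 := Equiv.ext fun x => Subtype.ext (LinearMap.congr_fun ha x.1)
  have : Fact (Nat.Prime 3) := ⟨Nat.prime_three⟩
  have hfix : ∀ x, x ∈ σ.supportᶜ ↔ x = 0 := by
    intro x
    rw [Finset.mem_compl, Equiv.Perm.notMem_support]
    refine ⟨fun h => Subtype.ext ?_, fun h => by subst h; exact Subtype.ext (map_zero a)⟩
    have hax : a x.1 = x.1 := congrArg Subtype.val h
    obtain ⟨v, hv⟩ := x.2
    have hpx : p x.1 = x.1 := by rw [← hv, ← Module.End.mul_apply, hp]
    have h0 := LinearMap.congr_fun hfree x.1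
    rw [Module.End.mul_apply, LinearMap.add_apply, LinearMap.add_apply, Module.End.one_apply,
      Module.End.mul_apply, hax, hax, show x.1 + x.1 + x.1 = (3 : ZMod 2) • x.1 by module,
      show (3 : ZMod 2) = 1 from rfl, one_smul, hpx] at h0
    exact h0
  have hmod : σ.supportᶜ.card ≡ Fintype.card (LinearMap.range p) [MOD 3] :=
    Equiv.Perm.card_compl_support_modEq h3
  rw [show σ.supportᶜ = {0} from Finset.ext fun x => by rw [hfix, Finset.mem_singleton],
    Finset.card_singleton, Module.card_eq_pow_finrank (K := ZMod 2), ZMod.card] at hmod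
  by_contra hodd
  obtain ⟨k, hk⟩ := Nat.not_even_iff_odd.1 hodd
  rw [rk] at hk
  rw [hk, pow_add, pow_mul, pow_one, Nat.ModEq, Nat.mul_mod, Nat.pow_mod] at hmod
  norm_num at hmod

variable (V) in
/-- The data. -/
structure Four where
  a : Fin 4 → Module.End (ZMod 2) V
  cube : ∀ i, a i * a i * a i = 1
  comm : ∀ i j, Commute (a i) (a j)
  prod : a 0 * a 1 * a 2 * a 3 = 1

section defs

variable {S : Type*} [Ring S] (a : Fin 4 → S)

/-- The idempotent of the fixed space. -/
def fixI (i : Fin 4) : S := 1 + a i + a i * a i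

/-- Its complement. -/
def movI (i : Fin 4) : S := 1 - fixI a i

/-- The idempotent of the space on which `a 0` and `a j` agree. -/
def agree (j : Fin 4) : S := 1 + a 0 * (a j * a j) + a 0 * a 0 * a j

/-- The idempotent of the space on which all four move. -/
def allMov : S := movI a 0 * movI a 1 * movI a 2 * movI a 3

/-- Exactly `i`, `j` fix. -/
def atomTwo (i j k l : Fin 4) : S := fixI a i * fixI a j * movI a k * movI a l

/-- Exactly `i` fixes. -/
def atomOne (i j k l : Fin 4) : S := fixI a i * movI a j * movI a k * movI a l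

/-- All four fix. -/
def allFix : S := fixI a 0 * fixI a 1 * fixI a 2 * fixI a 3

theorem fixI_comp (π : Fin 4 → Fin 4) (i : Fin 4) : fixI (a ∘ π) i = fixI a (π i) := rfl

theorem map_fixI {R : Type*} [Ring R] (φ : S →+* R) (i : Fin 4) :
    φ (fixI a i) = fixI (φ ∘ a) i := by simp [fixI]

theorem map_movI {R : Type*} [Ring R] (φ : S →+* R) (i : Fin 4) :
    φ (movI a i) = movI (φ ∘ a) i := by simp [movI, map_fixI]

theorem map_agree {R : Type*} [Ring R] (φ : S →+* R) (i : Fin 4) :
    φ (agree a i) = agree (φ ∘ a) i := by simp [agree]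

end defs

section ring

variable {S : Type*} [CommRing S] {a : Fin 4 → S} (h3 : ∀ i, a i * a i * a i = 1) (hprod : a 0 * a 1 * a 2 * a 3 = 1) (h2 : (2 : S) = 0)
include h3 h2

theorem fixI_idem (i : Fin 4) : fixI a i * fixI a i = fixI a i := by
  have := h3 i
  unfold fixI
  grind

theorem movI_idem (i : Fin 4) : movI a i * movI a i = movI a i := by
  have := fixI_idem h3 h2 i
  unfold movI
  grind

theorem agree_idem (j : Fin 4) : agree a j * agree a j = agree a j := by
  have := h3 0
  have := h3 j
  unfold agree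
  grind

theorem movI_fixI (i : Fin 4) : movI a i * fixI a i = 0 := by
  have := fixI_idem h3 h2 i
  unfold movI
  grind

theorem allMov_idem : allMov a * allMov a = allMov a := by
  unfold allMov
  calc movI a 0 * movI a 1 * movI a 2 * movI a 3 * (movI a 0 * movI a 1 * movI a 2 * movI a 3)
      = (movI a 0 * movI a 0) * (movI a 1 * movI a 1) * (movI a 2 * movI a 2) *
          (movI a 3 * movI a 3) := by ring
    _ = _ := by rw [movI_idem h3 h2, movI_idem h3 h2, movI_idem h3 h2, movI_idem h3 h2]

theorem allMov_fixI : ∀ i, allMov a * fixI a i = 0 := by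
  intro i
  unfold allMov
  match i with
  | 0 => linear_combination movI a 1 * movI a 2 * movI a 3 * movI_fixI h3 h2 0
  | 1 => linear_combination movI a 0 * movI a 2 * movI a 3 * movI_fixI h3 h2 1
  | 2 => linear_combination movI a 0 * movI a 1 * movI a 3 * movI_fixI h3 h2 2
  | 3 => linear_combination movI a 0 * movI a 1 * movI a 2 * movI_fixI h3 h2 3

theorem fixI_fix (i : Fin 4) : a i * fixI a i = fixI a i := by
  unfold fixI; linear_combination h3 i

include hprod

theorem fix_three {i j k l : Fin 4} (h : a i * a j * a k * a l = 1) :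
    fixI a i * fixI a j * fixI a k * fixI a l = fixI a i * fixI a j * fixI a k := by
  have hi := h3 i
  have hj := h3 j
  have hk := h3 k
  set x := fixI a i * fixI a j * fixI a k with hx
  have ei : a i * x = x := by rw [hx]; linear_combination fixI a j * fixI a k * fixI_fix h3 h2 i
  have ej : a j * x = x := by rw [hx]; linear_combination fixI a i * fixI a k * fixI_fix h3 h2 j
  have ek : a k * x = x := by rw [hx]; linear_combination fixI a i * fixI a j * fixI_fix h3 h2 k
  have el : a l * x = x := by
    calc a l * x = a l * (a i * (a j * (a k * x))) := by rw [ek, ej, ei]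
      _ = x := by linear_combination x * h
  unfold fixI at ei ej ek ⊢
  linear_combination (a l + 2) * el + x * h2

theorem agree_two : allMov a * agree a 1 * agree a 2 = 0 := by
  set q := allMov a * agree a 1 * agree a 2 with hq
  have e1 : a 1 * q = a 0 * q := by
    rw [hq]; unfold agree
    have := h3 0
    have := h3 1
    grind
  have e2 : a 2 * q = a 0 * q := by
    rw [hq]; unfold agree
    have := h3 0
    have := h3 2
    grind
  have e3 : a 3 * q = q := by
    calc a 3 * q = a 0 * a 0 * a 0 * (a 3 * q) := by rw [h3 0, one_mul]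
      _ = a 0 * a 3 * (a 0 * (a 0 * q)) := by ring
      _ = a 0 * a 3 * (a 0 * (a 1 * q)) := by rw [e1]
      _ = a 0 * a 3 * (a 1 * (a 0 * q)) := by ring
      _ = a 0 * a 3 * (a 1 * (a 2 * q)) := by rw [e2]
      _ = q := by linear_combination q * hprod
  have e4 : q * fixI a 3 = 0 := by
    rw [hq]; linear_combination agree a 1 * agree a 2 * allMov_fixI h3 h2 3
  have e5 : q * fixI a 3 = q := by
    unfold fixI; linear_combination (2 + a 3) * e3 + q * h2
  rw [← e5, e4]

theorem agree_none : allMov a * (1 - agree a 1) * (1 - agree a 2) * agree a 3 =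
    allMov a * (1 - agree a 1) * (1 - agree a 2) := by
  have f0 := allMov_fixI h3 h2 0
  have f1 := allMov_fixI h3 h2 1
  have f2 := allMov_fixI h3 h2 2
  set q := allMov a * (1 - agree a 1) * (1 - agree a 2) with hq
  have e1 : a 1 * q = a 0 * a 0 * q := by
    rw [hq]; unfold agree fixI at *
    have := h3 0
    have := h3 1
    grind
  have e2 : a 2 * q = a 0 * a 0 * q := by
    rw [hq]; unfold agree fixI at *
    have := h3 0
    have := h3 2
    grind
  have e3 : a 3 * q = a 0 * q := by
    calc a 3 * q = (a 0 * a 0 * a 0) * (a 0 * a 0 * a 0) * (a 3 * q) := by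
          rw [h3 0, one_mul, one_mul]
      _ = a 0 * a 0 * a 3 * (a 0 * a 0 * (a 0 * a 0 * q)) := by ring
      _ = a 0 * a 0 * a 3 * (a 0 * a 0 * (a 1 * q)) := by rw [e1]
      _ = a 0 * a 0 * a 3 * (a 1 * (a 0 * a 0 * q)) := by ring
      _ = a 0 * a 0 * a 3 * (a 1 * (a 2 * q)) := by rw [e2]
      _ = a 0 * q := by linear_combination a 0 * q * hprod
  unfold agree
  have := h3 0
  grind

end ring

section main

variable (f : Four V)

/-- The commutative algebra of the four operators. -/
abbrev alg : Subalgebra (ZMod 2) (Module.End (ZMod 2) V) :=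
  Algebra.adjoin (ZMod 2) (Set.range f.a)

instance algCommMul : IsMulCommutative (alg f) :=
  Algebra.isMulCommutative_adjoin (ZMod 2) (by
    rintro _ ⟨i, rfl⟩ _ ⟨j, rfl⟩
    exact f.comm i j)

noncomputable instance algComm : CommRing (alg f) :=
  { (inferInstance : Ring (alg f)) with mul_comm := mul_comm' }

/-- The operators inside the algebra. -/
def gen (i : Fin 4) : alg f := ⟨f.a i, Algebra.subset_adjoin ⟨i, rfl⟩⟩

theorem gen_cube (i : Fin 4) : gen f i * gen f i * gen f i = 1 := Subtype.ext (f.cube i)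

theorem gen_prod : gen f 0 * gen f 1 * gen f 2 * gen f 3 = 1 := Subtype.ext f.prod

theorem two_zero : (2 : alg f) = 0 := by
  rw [← map_ofNat (algebraMap (ZMod 2) (alg f)) 2, show (2 : ZMod 2) = 0 from rfl, map_zero]

/-- The dimension of the image. -/
noncomputable def r (x : alg f) : ℕ := rk (x : Module.End (ZMod 2) V)

theorem r_zero {x : alg f} (h : r f x = 0) : x = 0 := Subtype.ext (eq_zero_of_rk h)

theorem r_split {p q : alg f} (hp : p * p = p) (hq : q * q = q) :
    r f p = r f (p * q) + r f (p * (1 - q)) :=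
  rk_split (congrArg Subtype.val hp) (congrArg Subtype.val hq)
    (congrArg Subtype.val (mul_comm p q))

theorem r_even {x : alg f} (k : Fin 4) (hx : x * x = x) (h : x * fixI (gen f) k = 0) :
    Even (r f x) :=
  even_rk (a := f.a k) (congrArg Subtype.val hx) (congrArg Subtype.val (mul_comm (gen f k) x))
    (f.cube k) (congrArg Subtype.val h)

/-- The inclusion. -/
def inc : alg f →+* Module.End (ZMod 2) V := (alg f).val.toRingHom

theorem inc_gen : inc f ∘ gen f = f.a := rfl

/-- A linear equivalence permuting the operators. -/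
def Perms (σ : V ≃ₗ[ZMod 2] V) (π : Fin 4 → Fin 4) : Prop := ∀ i, σ.conj (f.a i) = f.a (π i)

variable {f}

theorem perms_eq {σ : V ≃ₗ[ZMod 2] V} {π : Fin 4 → Fin 4} (h : Perms f σ π) :
    σ.conjRingEquiv.toRingHom ∘ f.a = f.a ∘ π := funext h

theorem perms_r {σ : V ≃ₗ[ZMod 2] V} {x y : alg f}
    (h : σ.conjRingEquiv.toRingHom (inc f x) = inc f y) : r f y = r f x := by
  show rk (inc f y) = rk (inc f x)
  rw [← h]
  exact rk_conj σ _

variable {σ : V ≃ₗ[ZMod 2] V} {π : Fin 4 → Fin 4}

theorem perms_two (h : Perms f σ π) (i j k l : Fin 4) :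
    r f (atomTwo (gen f) (π i) (π j) (π k) (π l)) = r f (atomTwo (gen f) i j k l) := by
  refine perms_r (σ := σ) ?_
  simp only [atomTwo, map_mul, map_fixI, map_movI, inc_gen, perms_eq h]
  rfl

theorem perms_one (h : Perms f σ π) (i j k l : Fin 4) :
    r f (atomOne (gen f) (π i) (π j) (π k) (π l)) = r f (atomOne (gen f) i j k l) := by
  refine perms_r (σ := σ) ?_
  simp only [atomOne, map_mul, map_fixI, map_movI, inc_gen, perms_eq h]
  rfl

theorem perms_fix (h : Perms f σ π) (i : Fin 4) :
    r f (fixI (gen f) (π i)) = r f (fixI (gen f) i) := by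
  refine perms_r (σ := σ) ?_
  simp only [map_fixI, inc_gen, perms_eq h]
  rfl

theorem perms_pair (h : Perms f σ π) (i j : Fin 4) :
    r f (fixI (gen f) (π i) * fixI (gen f) (π j)) = r f (fixI (gen f) i * fixI (gen f) j) := by
  refine perms_r (σ := σ) ?_
  simp only [map_mul, map_fixI, inc_gen, perms_eq h]
  rfl

theorem allMov_eq : allMov (gen f) = movI (gen f) 0 * movI (gen f) 2 * movI (gen f) 3 * movI (gen f) 1 :=
  by unfold allMov; ring

/-- The permutation fixing `0` and cycling the others. -/
def cyc : Fin 4 → Fin 4 := ![0, 2, 3, 1]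

/-- The permutation swapping `0` and `1`. -/
def swp : Fin 4 → Fin 4 := ![1, 0, 2, 3]

theorem perms_agree (h : Perms f σ cyc) (j : Fin 4) :
    r f (allMov (gen f) * agree (gen f) (cyc j)) = r f (allMov (gen f) * agree (gen f) j) := by
  refine perms_r (σ := σ) ?_
  conv_rhs => rw [allMov_eq]
  simp only [allMov, map_mul, map_movI, map_agree, inc_gen, perms_eq h]
  rfl

theorem perms_agree_two (h : Perms f σ cyc) (j k : Fin 4) :
    r f (allMov (gen f) * agree (gen f) (cyc j) * agree (gen f) (cyc k)) =
      r f (allMov (gen f) * agree (gen f) j * agree (gen f) k) := by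
  refine perms_r (σ := σ) ?_
  conv_rhs => rw [allMov_eq]
  simp only [allMov, map_mul, map_movI, map_agree, inc_gen, perms_eq h]
  rfl

theorem agree_orth (ht : Perms f σ cyc) :
    allMov (gen f) * agree (gen f) 1 * agree (gen f) 2 = 0 ∧
    allMov (gen f) * agree (gen f) 2 * agree (gen f) 3 = 0 ∧
    allMov (gen f) * agree (gen f) 3 * agree (gen f) 1 = 0 := by
  have h0 := agree_two (gen_cube f) (gen_prod f) (two_zero f)
  have h1 : allMov (gen f) * agree (gen f) 2 * agree (gen f) 3 = 0 := by
    refine r_zero f ((perms_agree_two ht 1 2).trans ?_)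
    rw [h0]; exact rk_zero
  refine ⟨h0, h1, r_zero f ((perms_agree_two ht 2 3).trans ?_)⟩
  rw [h1]; exact rk_zero

theorem r_allMov (ht : Perms f σ cyc) :
    r f (allMov (gen f)) = 3 * r f (allMov (gen f) * agree (gen f) 1) := by
  obtain ⟨h12, h23, h31⟩ := agree_orth ht
  set U := allMov (gen f)
  have hU : U * U = U := allMov_idem (gen_cube f) (two_zero f)
  have hR := fun j => agree_idem (gen_cube f) (two_zero f) j
  rw [r_split f hU (hR 1)]
  have hV : U * (1 - agree (gen f) 1) * (U * (1 - agree (gen f) 1)) = U * (1 - agree (gen f) 1) := by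
    have := hR 1
    grind
  rw [r_split f hV (hR 2)]
  have e2 : U * (1 - agree (gen f) 1) * agree (gen f) 2 = U * agree (gen f) 2 := by
    linear_combination (-1 : alg f) * h12
  have e3 : U * (1 - agree (gen f) 1) * (1 - agree (gen f) 2) = U * agree (gen f) 3 := by
    rw [← agree_none (gen_cube f) (gen_prod f) (two_zero f)]
    linear_combination (agree (gen f) 2 - 1) * h31 - h23
  rw [e2, e3]
  have k1 : r f (U * agree (gen f) 2) = r f (U * agree (gen f) 1) := perms_agree ht 1
  have k2 : r f (U * agree (gen f) 3) = r f (U * agree (gen f) 2) := perms_agree ht 2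
  omega

theorem gen_perm {i j k l : Fin 4} (h : ({i, j, k, l} : Finset (Fin 4)) = Finset.univ) :
    gen f i * gen f j * gen f k * gen f l = 1 := by
  rw [← gen_prod f]
  have hc : ({i, j, k, l} : Finset (Fin 4)).card = 4 := by rw [h]; rfl
  have hne : i ≠ j ∧ i ≠ k ∧ i ≠ l ∧ j ≠ k ∧ j ≠ l ∧ k ≠ l := by
    clear h
    revert hc; revert i j k l; decide
  calc gen f i * gen f j * gen f k * gen f l = ∏ m ∈ ({i, j, k, l} : Finset (Fin 4)), gen f m := by
        obtain ⟨h1, h2, h3, h4, h5, h6⟩ := hne
        rw [Finset.prod_insert (by simp [h1, h2, h3]), Finset.prod_insert (by simp [h4, h5]),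
          Finset.prod_insert (by simp [h6]), Finset.prod_singleton]
        ring
    _ = _ := by rw [h, Fin.prod_univ_four]

theorem fix_three_gen {i j k l : Fin 4} (h : ({i, j, k, l} : Finset (Fin 4)) = Finset.univ) :
    fixI (gen f) i * fixI (gen f) j * fixI (gen f) k * fixI (gen f) l =
      fixI (gen f) i * fixI (gen f) j * fixI (gen f) k :=
  fix_three (gen_cube f) (gen_prod f) (two_zero f) (gen_perm h)

theorem two_mov {i j k l : Fin 4} (h : ({i, j, l, k} : Finset (Fin 4)) = Finset.univ) :
    fixI (gen f) i * fixI (gen f) j * movI (gen f) k = atomTwo (gen f) i j k l := by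
  unfold atomTwo movI
  linear_combination -fix_three_gen (f := f) h

/-- The common fixed space or the four fixed spaces. -/
theorem cases_four {s t : V ≃ₗ[ZMod 2] V} (hs : Perms f s swp) (ht : Perms f t cyc)
    (hdim : Module.finrank (ZMod 2) V = 8) (hne : ∃ i, f.a i ≠ 1) :
    ((∀ i j, i ≠ j → fixI (gen f) i * fixI (gen f) j = 0) ∧ allMov (gen f) = 0 ∧
      ∀ i, r f (fixI (gen f) i) = 2) ∨
    (∀ i, fixI (gen f) i = fixI (gen f) 0 ∧ r f (fixI (gen f) i) = 2) := by
  have h3 := gen_cube f
  have h2 := two_zero f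
  have hP := fun i => fixI_idem h3 h2 i
  have hQ := fun i => movI_idem h3 h2 i
  have hmul : ∀ {x y : alg f}, x * x = x → y * y = y → x * y * (x * y) = x * y := fun {x y} hx hy => by
    rw [mul_mul_mul_comm, hx, hy]
  set P := fixI (gen f)
  set M := movI (gen f)
  have hM : ∀ i, 1 - P i = M i := fun i => rfl
  have h1 : r f 1 = 8 := rk_one.trans hdim
  -- split the whole space
  have s0 := r_split f (one_mul (1 : alg f)) (hP 0)
  rw [one_mul, one_mul, hM] at s0
  have s1 := r_split f (hP 0) (hP 1)
  have s2 := r_split f (hmul (hP 0) (hP 1)) (hP 2)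
  have s3 := r_split f (hmul (hP 0) (hQ 1)) (hP 2)
  have s4 := r_split f (hmul (hmul (hP 0) (hQ 1)) (hQ 2)) (hP 3)
  have s5 := r_split f (hQ 0) (hP 1)
  have s6 := r_split f (hmul (hQ 0) (hP 1)) (hP 2)
  have s7 := r_split f (hmul (hmul (hQ 0) (hP 1)) (hQ 2)) (hP 3)
  have s8 := r_split f (hmul (hQ 0) (hQ 1)) (hP 2)
  have s9 := r_split f (hmul (hmul (hQ 0) (hQ 1)) (hP 2)) (hP 3)
  have s10 := r_split f (hmul (hmul (hQ 0) (hQ 1)) (hQ 2)) (hP 3)
  simp only [hM] at s1 s2 s3 s4 s5 s6 s7 s8 s9 s10
  have e1 : P 0 * P 1 * P 2 = allFix (gen f) := by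
    rw [allFix, fix_three_gen (f := f) (by decide)]
  have e2 : P 0 * P 1 * M 2 = atomTwo (gen f) 0 1 2 3 := two_mov (by decide)
  have e3 : P 0 * M 1 * P 2 = atomTwo (gen f) 0 2 1 3 := by
    rw [← two_mov (f := f) (i := 0) (j := 2) (k := 1) (l := 3) (by decide)]; ring
  have e4 : P 0 * M 1 * M 2 * P 3 = atomTwo (gen f) 0 3 1 2 := by unfold atomTwo; ring
  have e5 : P 0 * M 1 * M 2 * M 3 = atomOne (gen f) 0 1 2 3 := rfl
  have e6 : M 0 * P 1 * P 2 = atomTwo (gen f) 1 2 0 3 := by
    rw [← two_mov (f := f) (i := 1) (j := 2) (k := 0) (l := 3) (by decide)]; ring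
  have e7 : M 0 * P 1 * M 2 * P 3 = atomTwo (gen f) 1 3 0 2 := by unfold atomTwo; ring
  have e8 : M 0 * P 1 * M 2 * M 3 = atomOne (gen f) 1 0 2 3 := by unfold atomOne; ring
  have e9 : M 0 * M 1 * P 2 * P 3 = atomTwo (gen f) 2 3 0 1 := by unfold atomTwo; ring
  have e10 : M 0 * M 1 * P 2 * M 3 = atomOne (gen f) 2 0 1 3 := by unfold atomOne; ring
  have e11 : M 0 * M 1 * M 2 * P 3 = atomOne (gen f) 3 0 1 2 := by unfold atomOne; ring
  have e12 : M 0 * M 1 * M 2 * M 3 = allMov (gen f) := rfl
  rw [e1, e2] at s2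
  rw [e3] at s3
  rw [e4, e5] at s4
  rw [e6] at s6
  rw [e7, e8] at s7
  rw [e9, e10] at s9
  rw [e11, e12] at s10
  -- atoms of one kind have one dimension
  have d1 : r f (atomTwo (gen f) 0 2 1 3) = r f (atomTwo (gen f) 0 1 2 3) := by
    rw [← perms_two ht 0 1 2 3]; congr 1; unfold atomTwo cyc; simp; ring
  have d2 : r f (atomTwo (gen f) 0 3 1 2) = r f (atomTwo (gen f) 0 2 1 3) := by
    rw [← perms_two ht 0 2 1 3]; congr 1; unfold atomTwo cyc; simp; ring
  have d3 : r f (atomTwo (gen f) 1 2 0 3) = r f (atomTwo (gen f) 0 2 1 3) := perms_two hs 0 2 1 3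
  have d4 : r f (atomTwo (gen f) 1 3 0 2) = r f (atomTwo (gen f) 0 3 1 2) := perms_two hs 0 3 1 2
  have d5 : r f (atomTwo (gen f) 2 3 0 1) = r f (atomTwo (gen f) 1 2 0 3) := perms_two ht 1 2 0 3
  have c1 : r f (atomOne (gen f) 1 0 2 3) = r f (atomOne (gen f) 0 1 2 3) := perms_one hs 0 1 2 3
  have c2 : r f (atomOne (gen f) 2 0 1 3) = r f (atomOne (gen f) 1 0 2 3) := by
    rw [← perms_one ht 1 0 2 3]; congr 1; unfold atomOne cyc; simp; ring
  have c3 : r f (atomOne (gen f) 3 0 1 2) = r f (atomOne (gen f) 2 0 1 3) := by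
    rw [← perms_one ht 2 0 1 3]; congr 1; unfold atomOne cyc; simp; ring
  have hmov : ∀ i, M i * P i = 0 := fun i => movI_fixI h3 h2 i
  have v1 : Even (r f (atomTwo (gen f) 0 1 2 3)) :=
    r_even f 2 (hmul (hmul (hmul (hP 0) (hP 1)) (hQ 2)) (hQ 3))
      (show P 0 * P 1 * M 2 * M 3 * P 2 = 0 by linear_combination P 0 * P 1 * M 3 * hmov 2)
  have v2 : Even (r f (atomOne (gen f) 0 1 2 3)) :=
    r_even f 1 (hmul (hmul (hmul (hP 0) (hQ 1)) (hQ 2)) (hQ 3))
      (show P 0 * M 1 * M 2 * M 3 * P 1 = 0 by linear_combination P 0 * M 2 * M 3 * hmov 1)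
  have v3 : Even (r f (allMov (gen f) * agree (gen f) 1)) :=
    r_even f 0 (hmul (allMov_idem h3 h2) (agree_idem h3 h2 1))
      (show allMov (gen f) * agree (gen f) 1 * P 0 = 0 by
        linear_combination agree (gen f) 1 * allMov_fixI h3 h2 0)
  have hU := r_allMov ht
  obtain ⟨u1, hu1⟩ := v1
  obtain ⟨u2, hu2⟩ := v2
  obtain ⟨u3, hu3⟩ := v3
  have hAF : allFix (gen f) * allFix (gen f) = allFix (gen f) :=
    hmul (hmul (hmul (hP 0) (hP 1)) (hP 2)) (hP 3)
  have hfull : r f (allFix (gen f)) ≠ 8 := by
    intro h8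
    obtain ⟨i, hi⟩ := hne
    have := r_split f (one_mul (1 : alg f)) hAF
    rw [h1, one_mul, one_mul, h8] at this
    have hz : allFix (gen f) = 1 := (sub_eq_zero.1 (r_zero f (by omega))).symm
    have hfx : ∀ j, gen f j * P j = P j := fun j => fixI_fix h3 h2 j
    have hgi : gen f i = 1 := by
      calc gen f i = gen f i * allFix (gen f) := by rw [hz, mul_one]
        _ = allFix (gen f) := by
          unfold allFix
          match i with
          | 0 => linear_combination P 1 * P 2 * P 3 * hfx 0
          | 1 => linear_combination P 0 * P 2 * P 3 * hfx 1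
          | 2 => linear_combination P 0 * P 1 * P 3 * hfx 2
          | 3 => linear_combination P 0 * P 1 * P 2 * hfx 3
        _ = 1 := hz
    exact hi (congrArg Subtype.val hgi)
  have hall : ∀ i, r f (P i) = r f (P 0) := by
    have k1 : r f (P 1) = r f (P 0) := perms_fix hs 0
    have k2 : r f (P 2) = r f (P 1) := perms_fix ht 1
    have k3 : r f (P 3) = r f (P 2) := perms_fix ht 2
    intro i
    match i with
    | 0 => rfl
    | 1 => exact k1
    | 2 => exact k2.trans k1
    | 3 => exact k3.trans (k2.trans k1)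
  by_cases he : r f (atomOne (gen f) 0 1 2 3) = 0
  · right
    have hAF2 : r f (allFix (gen f)) = 2 ∧ r f (P 0) = 2 := by omega
    have habs : ∀ i, P i * allFix (gen f) = allFix (gen f) := by
      intro i
      unfold allFix
      match i with
      | 0 => linear_combination P 1 * P 2 * P 3 * hP 0
      | 1 => linear_combination P 0 * P 2 * P 3 * hP 1
      | 2 => linear_combination P 0 * P 1 * P 3 * hP 2
      | 3 => linear_combination P 0 * P 1 * P 2 * hP 3
    have heq : ∀ i, P i = allFix (gen f) := by
      intro i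
      have := r_split f (hP i) hAF
      rw [habs, hall, hAF2.1, hAF2.2] at this
      have hz := r_zero f (x := P i * (1 - allFix (gen f))) (by omega)
      linear_combination hz + habs i
    exact fun i => ⟨(heq i).trans (heq 0).symm, (hall i).trans hAF2.2⟩
  · left
    have hd : r f (P 0 * P 1) = 0 ∧ r f (allMov (gen f)) = 0 ∧ r f (P 0) = 2 := by omega
    refine ⟨?_, r_zero f hd.2.1, fun i => (hall i).trans hd.2.2⟩
    have k02 : r f (P 0 * P 2) = r f (P 0 * P 1) := perms_pair ht 0 1
    have k03 : r f (P 0 * P 3) = r f (P 0 * P 2) := perms_pair ht 0 2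
    have k12 : r f (P 1 * P 2) = r f (P 0 * P 2) := perms_pair hs 0 2
    have k13 : r f (P 1 * P 3) = r f (P 0 * P 3) := perms_pair hs 0 3
    have k23 : r f (P 2 * P 3) = r f (P 1 * P 2) := perms_pair ht 1 2
    have z := hd.1
    intro i j hij
    apply r_zero f
    revert hij
    match i, j with
    | 0, 0 | 1, 1 | 2, 2 | 3, 3 => exact fun h => absurd rfl h
    | 0, 1 => exact fun _ => z
    | 0, 2 => exact fun _ => k02.trans z
    | 0, 3 => exact fun _ => k03.trans (k02.trans z)
    | 1, 2 => exact fun _ => k12.trans (k02.trans z)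
    | 1, 3 => exact fun _ => k13.trans (k03.trans (k02.trans z))
    | 2, 3 => exact fun _ => k23.trans (k12.trans (k02.trans z))
    | 1, 0 => exact fun _ => by rw [mul_comm]; exact z
    | 2, 0 => exact fun _ => by rw [mul_comm]; exact k02.trans z
    | 3, 0 => exact fun _ => by rw [mul_comm]; exact k03.trans (k02.trans z)
    | 2, 1 => exact fun _ => by rw [mul_comm]; exact k12.trans (k02.trans z)
    | 3, 1 => exact fun _ => by rw [mul_comm]; exact k13.trans (k03.trans (k02.trans z))
    | 3, 2 => exact fun _ => by rw [mul_comm]; exact k23.trans (k12.trans (k02.trans z))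

theorem agree_on_fix {i j k l : Fin 4} (h : ({i, j, k, l} : Finset (Fin 4)) = Finset.univ)
    (hij : fixI (gen f) i * fixI (gen f) j = 0) (hik : fixI (gen f) i * fixI (gen f) k = 0)
    (hil : fixI (gen f) i * fixI (gen f) l = 0) :
    gen f j * fixI (gen f) i = gen f k * fixI (gen f) i := by
  have hp := gen_perm (f := f) h
  have hfx := fixI_fix (gen_cube f) (two_zero f) i
  have h2 := two_zero f
  have := gen_cube f j
  have := gen_cube f k
  have := gen_cube f l
  have e : gen f j * gen f k * gen f l * fixI (gen f) i = fixI (gen f) i := by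
    linear_combination fixI (gen f) i * hp - gen f j * gen f k * gen f l * hfx
  have hj : fixI (gen f) i * (1 + gen f j + gen f j * gen f j) = 0 := hij
  have hk : fixI (gen f) i * (1 + gen f k + gen f k * gen f k) = 0 := hik
  have hl : fixI (gen f) i * (1 + gen f l + gen f l * gen f l) = 0 := hil
  grind

end main

/-- The two decompositions of the space. -/
theorem decomposition (f : Four V) {s t : V ≃ₗ[ZMod 2] V} (hs : Perms f s swp)
    (ht : Perms f t cyc) (hdim : Module.finrank (ZMod 2) V = 8) (hne : ∃ i, f.a i ≠ 1) :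
    (∃ w : Module.End (ZMod 2) V, w * w + w + 1 = 0 ∧ (∀ i, Commute w (f.a i)) ∧
      (∀ i, w * movI f.a i = f.a i * movI f.a i) ∧ (∀ i j, i ≠ j → fixI f.a i * fixI f.a j = 0) ∧
      fixI f.a 0 + fixI f.a 1 + fixI f.a 2 + fixI f.a 3 = 1 ∧ ∀ i, rk (fixI f.a i) = 2) ∨
    (∀ i, fixI f.a i = fixI f.a 0 ∧ rk (fixI f.a i) = 2) := by
  have hinc : ∀ i, inc f (fixI (gen f) i) = fixI f.a i := fun i => map_fixI _ _ i
  have hincM : ∀ i, inc f (movI (gen f) i) = movI f.a i := fun i => map_movI _ _ i
  have hr : ∀ i, r f (fixI (gen f) i) = rk (fixI f.a i) := fun i => by rw [← hinc i]; rfl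
  rcases cases_four hs ht hdim hne with ⟨horth, hall, hrk⟩ | h
  swap
  · exact Or.inr fun i => ⟨by rw [← hinc i, ← hinc 0, (h i).1], (hr i).symm.trans (h i).2⟩
  left
  have h3 := gen_cube f
  have h2 := two_zero f
  set P := fixI (gen f) with hPdef
  have hP : ∀ i, P i * P i = P i := fun i => fixI_idem h3 h2 i
  have hsum : P 0 + P 1 + P 2 + P 3 = 1 := by
    have := horth 0 1 (by decide); have := horth 0 2 (by decide); have := horth 0 3 (by decide)
    have := horth 1 2 (by decide); have := horth 1 3 (by decide); have := horth 2 3 (by decide)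
    unfold allMov movI at hall
    rw [← hPdef] at hall
    grind
  set w := gen f 0 * (1 - P 0) + gen f 1 * P 0 with hw
  have hag : ∀ {i j k l : Fin 4}, ({i, j, k, l} : Finset (Fin 4)) = Finset.univ → i ≠ j → i ≠ k →
      i ≠ l → gen f j * P i = gen f k * P i := fun h a b c =>
    agree_on_fix h (horth _ _ a) (horth _ _ b) (horth _ _ c)
  have w0 : w * P 0 = gen f 1 * P 0 := by
    rw [hw]; linear_combination (gen f 1 - gen f 0) * hP 0
  have wk : ∀ k, k ≠ 0 → w * P k = gen f 0 * P k := fun k hk => by
    rw [hw]; linear_combination (gen f 1 - gen f 0) * horth 0 k hk.symm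
  have hwP : ∀ i k, i ≠ k → w * P k = gen f i * P k := by
    intro i k
    match i, k with
    | 0, 0 | 1, 1 | 2, 2 | 3, 3 => exact fun h => absurd rfl h
    | 0, 1 => exact fun _ => wk 1 (by decide)
    | 0, 2 => exact fun _ => wk 2 (by decide)
    | 0, 3 => exact fun _ => wk 3 (by decide)
    | 1, 0 => exact fun _ => w0
    | 2, 0 => exact fun _ => w0.trans
                (hag (i := 0) (j := 1) (k := 2) (l := 3) (by decide) (by decide) (by decide) (by decide))
    | 3, 0 => exact fun _ => w0.trans
                (hag (i := 0) (j := 1) (k := 3) (l := 2) (by decide) (by decide) (by decide) (by decide))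
    | 2, 1 => exact fun _ => (wk 1 (by decide)).trans
                (hag (i := 1) (j := 0) (k := 2) (l := 3) (by decide) (by decide) (by decide) (by decide))
    | 3, 1 => exact fun _ => (wk 1 (by decide)).trans
                (hag (i := 1) (j := 0) (k := 3) (l := 2) (by decide) (by decide) (by decide) (by decide))
    | 1, 2 => exact fun _ => (wk 2 (by decide)).trans
                (hag (i := 2) (j := 0) (k := 1) (l := 3) (by decide) (by decide) (by decide) (by decide))
    | 3, 2 => exact fun _ => (wk 2 (by decide)).trans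
                (hag (i := 2) (j := 0) (k := 3) (l := 1) (by decide) (by decide) (by decide) (by decide))
    | 1, 3 => exact fun _ => (wk 3 (by decide)).trans
                (hag (i := 3) (j := 0) (k := 1) (l := 2) (by decide) (by decide) (by decide) (by decide))
    | 2, 3 => exact fun _ => (wk 3 (by decide)).trans
                (hag (i := 3) (j := 0) (k := 2) (l := 1) (by decide) (by decide) (by decide) (by decide))
  have hwM : ∀ i, w * (1 - P i) = gen f i * (1 - P i) := by
    intro i
    match i with
    | 0 => linear_combination hwP 0 1 (by decide) + hwP 0 2 (by decide) + hwP 0 3 (by decide) +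
        (gen f 0 - w) * hsum
    | 1 => linear_combination hwP 1 0 (by decide) + hwP 1 2 (by decide) + hwP 1 3 (by decide) +
        (gen f 1 - w) * hsum
    | 2 => linear_combination hwP 2 0 (by decide) + hwP 2 1 (by decide) + hwP 2 3 (by decide) +
        (gen f 2 - w) * hsum
    | 3 => linear_combination hwP 3 0 (by decide) + hwP 3 1 (by decide) + hwP 3 2 (by decide) +
        (gen f 3 - w) * hsum
  have hquad : ∀ i k, i ≠ k → (w * w + w + 1) * P k = 0 := by
    intro i k hik
    have h0 : P k * (1 + gen f i + gen f i * gen f i) = 0 := horth k i hik.symm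
    linear_combination (w + gen f i + 1) * hwP i k hik + h0
  have hw1 : w * w + w + 1 = 0 := by
    linear_combination hquad 1 0 (by decide) + hquad 0 1 (by decide) + hquad 0 2 (by decide) +
      hquad 0 3 (by decide) - (w * w + w + 1) * hsum
  refine ⟨inc f w, ?_, fun i => ?_, fun i => ?_, fun i j hij => ?_, ?_, fun i => (hr i).symm.trans (hrk i)⟩
  · rw [← map_mul, ← map_add, ← map_one (inc f), ← map_add, hw1, map_zero]
  · show inc f w * inc f (gen f i) = inc f (gen f i) * inc f w
    rw [← map_mul, ← map_mul, mul_comm]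
  · rw [← hincM i, ← map_mul, show w * movI (gen f) i = gen f i * movI (gen f) i from hwM i, map_mul]
    rfl
  · rw [← hinc i, ← hinc j, ← map_mul, horth i j hij, map_zero]
  · rw [← hinc 0, ← hinc 1, ← hinc 2, ← hinc 3, ← map_add, ← map_add, ← map_add, hsum, map_one]

theorem two_by_two_commute :
    ∀ A B : Matrix (Fin 2) (Fin 2) (ZMod 2), A * A + A + 1 = 0 → B * B * B = 1 → A * B = B * A := by
  decide

/-- An operator of order dividing three commuting with one of the four commutes with `w`. -/
theorem commute_w (f : Four V) {w b : Module.End (ZMod 2) V} (hw : w * w + w + 1 = 0)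
    (hwa : ∀ i, Commute w (f.a i)) (hwM : ∀ i, w * movI f.a i = f.a i * movI f.a i)
    (hrk : ∀ i, rk (fixI f.a i) = 2) (hb : b * b * b = 1) {i : Fin 4} (hba : Commute b (f.a i)) :
    Commute b w := by
  set p := fixI f.a i
  have hcp : ∀ x, Commute x (f.a i) → Commute x p := fun x hx =>
    ((Commute.one_right x).add_right hx).add_right (hx.mul_right hx)
  have hbp := hcp b hba
  have hwp := hcp w (hwa i)
  have hbM : Commute b (movI f.a i) := (Commute.one_right b).sub_right hbp
  have hM : b * w * movI f.a i = w * b * movI f.a i := by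
    calc b * w * movI f.a i = b * (f.a i * movI f.a i) := by rw [mul_assoc, hwM]
      _ = f.a i * movI f.a i * b := (hba.mul_right hbM).eq
      _ = w * (movI f.a i * b) := by rw [← hwM i, mul_assoc]
      _ = w * b * movI f.a i := by rw [← hbM.eq, mul_assoc]
  have hW : ∀ (x : Module.End (ZMod 2) V), Commute x p →
      ∀ v ∈ LinearMap.range p, x v ∈ LinearMap.range p := by
    rintro x hx _ ⟨v, rfl⟩
    exact ⟨x v, LinearMap.congr_fun hx.eq.symm v⟩
  let B := Module.finBasisOfFinrankEq (ZMod 2) (LinearMap.range p) (hrk i)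
  let φ := LinearMap.toMatrixAlgEquiv B
  let w' : Module.End (ZMod 2) (LinearMap.range p) := w.restrict (hW w hwp)
  let b' : Module.End (ZMod 2) (LinearMap.range p) := b.restrict (hW b hbp)
  have hw' : w' * w' + w' + 1 = 0 :=
    LinearMap.ext fun x => Subtype.ext (LinearMap.congr_fun hw x.1)
  have hb' : b' * b' * b' = 1 := LinearMap.ext fun x => Subtype.ext (LinearMap.congr_fun hb x.1)
  have hc : w' * b' = b' * w' := φ.injective (by
    rw [map_mul, map_mul]
    exact two_by_two_commute _ _ (by rw [← map_mul, ← map_add, ← map_one φ, ← map_add, hw', map_zero])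
      (by rw [← map_mul, ← map_mul, hb', map_one]))
  have hP : b * w * p = w * b * p := LinearMap.ext fun v =>
    (congrArg Subtype.val (LinearMap.congr_fun hc ⟨p v, v, rfl⟩)).symm
  calc b * w = b * w * (p + movI f.a i) := by rw [movI, add_sub_cancel, mul_one]
    _ = w * b * (p + movI f.a i) := by rw [mul_add, mul_add, hP, hM]
    _ = w * b := by rw [movI, add_sub_cancel, mul_one]

end H50.U6C
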